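import Groth.Agent.CohExtLib.Hom

/-!
# Subobjects of quasi-coherent modules through sections on affine opens
-/

set_option autoImplicit false
set_option linter.style.haveILetI false
set_option backward.isDefEq.respectTransparency false

universe u

open CategoryTheory CategoryTheory.Limits AlgebraicGeometry TopologicalSpace Opposite

noncomputable section

namespace CohExtLib

open DevissLib (St gm)
open QCohLib (appLin)

variable {X : Scheme.{u}}

theorem hom_eq_zero_of_cover {M N : X.Modules} [Coh.IsQCoh M] (φ : M ⟶ N) {C : Set X.affineOpens}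
    (hC : ∀ x : X, ∃ V ∈ C, x ∈ V.1) (h : ∀ V ∈ C, ∀ s : Γ(M, V.1), φ.app V.1 s = 0) : φ = 0 := by
  refine hom_eq_zero_of_affine φ fun U _ s => eq_zero_of_gm _ fun p hp => ?_
  obtain ⟨V, hVC, hpV⟩ := hC p
  obtain ⟨g, hg, hpg⟩ := QCohLib.exists_basicOpen_nhd V.2 (show p ∈ U ⊓ V.1 from ⟨hp, hpV⟩) hpV
  have hgU : X.basicOpen g ≤ U := hg.trans inf_le_left
  obtain ⟨N', t, ht⟩ := (QCohLib.localizingAt_of_isQCoh V.2 M g).exists_extend
    (M.presheaf.map (homOfLE hgU).op s)
  have h1 : (X.presheaf.map (homOfLE (X.basicOpen_le g)).op g) ^ N' •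
      φ.app (X.basicOpen g) (M.presheaf.map (homOfLE hgU).op s) = 0 := by
    rw [← QCohLib.app_smul, ← ht, QCohLib.app_map, h V hVC t, map_zero]
  have h2 := ((QCohLib.isUnit_res g (le_refl (X.basicOpen g))).pow N').smul_eq_zero.mp h1
  rw [QCohLib.app_map] at h2
  rw [← DevissLib.gm_map N hgU p hpg, h2]
  exact DevissLib.gm_zero N p hpg

theorem exists_app_of_cokernel {A F : X.Modules} (a : A ⟶ F) [Mono a] {V : X.Opens} (z : Γ(F, V))
    (hz : (cokernel.π a).app V z = 0) : ∃ x : Γ(A, V), a.app V x = z :=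
  QCohLib.exists_of_app_eq_zero (S := ShortComplex.mk a (cokernel.π a) (cokernel.condition a))
    (ShortComplex.exact_of_g_is_cokernel _ (cokernelIsCokernel a)) ‹Mono a› z hz

theorem app_cokernel_π_app {A F : X.Modules} (a : A ⟶ F) {V : X.Opens} (x : Γ(A, V)) :
    (cokernel.π a).app V (a.app V x) = 0 :=
  congrArg (fun θ : A ⟶ cokernel a => θ.app V x) (cokernel.condition a)

/-- Subobjects with the same sections on the members of an affine cover are equal. -/
theorem mk_eq_mk {A B F : X.Modules} [Coh.IsQCoh A] [Coh.IsQCoh B] (a : A ⟶ F) (b : B ⟶ F) [Mono a] [Mono b]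
    {C : Set X.affineOpens} (hC : ∀ x : X, ∃ V ∈ C, x ∈ V.1)
    (h : ∀ V ∈ C, LinearMap.range (appLin a V.1) = LinearMap.range (appLin b V.1)) :
    Subobject.mk a = Subobject.mk b := by
  have key : ∀ {A B : X.Modules} (a : A ⟶ F) (b : B ⟶ F) [Coh.IsQCoh A] [Mono a] [Mono b],
      (∀ V ∈ C, LinearMap.range (appLin a V.1) ≤ LinearMap.range (appLin b V.1)) →
      Subobject.mk a ≤ Subobject.mk b := by
    intro A B a b _ _ _ hab
    have h0 : a ≫ cokernel.π b = 0 := hom_eq_zero_of_cover _ hC fun V hV s => by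
      obtain ⟨y, hy⟩ := hab V hV ⟨s, rfl⟩
      refine (congrArg ((cokernel.π b).app V.1) (show a.app V.1 s = b.app V.1 y from hy.symm)).trans ?_
      exact app_cokernel_π_app b y
    exact Subobject.mk_le_mk_of_comm (Abelian.monoLift b a h0) (Abelian.monoLift_comp b a h0)
  exact le_antisymm (key a b fun V hV => (h V hV).le) (key b a fun V hV => (h V hV).ge)

/-- The intersection of two subobjects. -/
theorem mk_inf {A B F : X.Modules} (a : A ⟶ F) (b : B ⟶ F) [Mono a] [Mono b] :
    Subobject.mk a ⊓ Subobject.mk b = Subobject.mk (kernel.ι (a ≫ cokernel.π b) ≫ a) := by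
  apply le_antisymm
  · let P := Subobject.mk a ⊓ Subobject.mk b
    have ha : (Subobject.ofLEMk P a inf_le_left) ≫ a = P.arrow := Subobject.ofLEMk_comp _
    have hb : (Subobject.ofLEMk P b inf_le_right) ≫ b = P.arrow := Subobject.ofLEMk_comp _
    have h0 : Subobject.ofLEMk P a inf_le_left ≫ a ≫ cokernel.π b = 0 := by
      rw [← Category.assoc, ha, ← hb, Category.assoc, cokernel.condition, comp_zero]
    exact Subobject.le_mk_of_comm (kernel.lift _ _ h0) (by rw [kernel.lift_ι_assoc, ha])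
  · refine le_inf (Subobject.mk_le_mk_of_comm (kernel.ι (a ≫ cokernel.π b)) rfl) ?_
    have h0 : (kernel.ι (a ≫ cokernel.π b) ≫ a) ≫ cokernel.π b = 0 := by
      rw [Category.assoc, kernel.condition]
    exact Subobject.mk_le_mk_of_comm (Abelian.monoLift b _ h0) (Abelian.monoLift_comp b _ h0)

theorem range_inf {A B F : X.Modules} (a : A ⟶ F) (b : B ⟶ F) [Mono a] [Mono b] (V : X.Opens) :
    LinearMap.range (appLin (kernel.ι (a ≫ cokernel.π b) ≫ a) V) =
      LinearMap.range (appLin a V) ⊓ LinearMap.range (appLin b V) := by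
  apply le_antisymm
  · rintro _ ⟨w, rfl⟩
    refine ⟨⟨(kernel.ι (a ≫ cokernel.π b)).app V w, rfl⟩, ?_⟩
    exact exists_app_of_cokernel b _ (congrArg
      (fun θ : kernel (a ≫ cokernel.π b) ⟶ cokernel b => θ.app V w) (kernel.condition (a ≫ cokernel.π b)))
  · rintro z ⟨⟨x, rfl⟩, ⟨y, hy⟩⟩
    obtain ⟨w, hw⟩ := QCohLib.exists_of_app_eq_zero
      (S := ShortComplex.mk _ _ (kernel.condition (a ≫ cokernel.π b)))
      (ShortComplex.exact_of_f_is_kernel _ (kernelIsKernel _)) equalizer.ι_mono x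
      ((congrArg ((cokernel.π b).app V) (show a.app V x = b.app V y from hy.symm)).trans
        (app_cokernel_π_app b y))
    exact ⟨w, congrArg (a.app V) hw⟩

theorem range_idealMulι (J : X.IdealSheafData) (M : X.Modules) [Coh.IsQCoh M] (V : X.affineOpens) :
    LinearMap.range (appLin (Dual3.idealMulι J M) V.1) = J.ideal V • (⊤ : Submodule Γ(X, V.1) Γ(M, V.1)) :=
  le_antisymm (by rintro _ ⟨w, rfl⟩; exact app_idealMulι_mem J M V.2 w)
    fun z hz => exists_of_mem J M V.2 hz

theorem range_comp_idealMulι {M N : X.Modules} [Coh.IsQCoh M] (J : X.IdealSheafData) (f : M ⟶ N)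
    (V : X.affineOpens) :
    LinearMap.range (appLin (Dual3.idealMulι J M ≫ f) V.1) =
      J.ideal V • LinearMap.range (appLin f V.1) := by
  rw [show appLin (Dual3.idealMulι J M ≫ f) V.1 = (appLin f V.1).comp (appLin (Dual3.idealMulι J M) V.1)
    from LinearMap.ext fun _ => rfl, LinearMap.range_comp, range_idealMulι, Submodule.map_smul'',
    Submodule.map_top]

/-- **Artin–Rees** for subobjects. -/
theorem artin_rees [IsNoetherian X] {F G : X.Modules} (hF : Coh.IsCoh F) [Coh.IsQCoh G] (ι : G ⟶ F)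
    [Mono ι] (I : X.IdealSheafData) :
    ∃ c : ℕ, ∀ n : ℕ, c ≤ n →
      Subobject.mk (Dual3.idealMulι (I ^ (n - c))
          (Subobject.underlying.obj (Subobject.mk (Dual3.idealMulι (I ^ c) F) ⊓ Subobject.mk ι)) ≫
        (Subobject.mk (Dual3.idealMulι (I ^ c) F) ⊓ Subobject.mk ι).arrow) =
      Subobject.mk (Dual3.idealMulι (I ^ n) F) ⊓ Subobject.mk ι := by
  classical
  haveI := hF.1
  haveI : Coh.IsQCoh (cokernel ι) := QCohLib.isQCoh_cokernel ι
  obtain ⟨C, hC⟩ := exists_affine_cover (X := X)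
  choose c₀ hc₀ using fun V : X.affineOpens => by
    haveI : IsNoetherianRing Γ(X, V.1) := IsLocallyNoetherian.component_noetherian V
    haveI := QCohLib.finite_of_isFT hF.2 V.2
    exact Ideal.exists_pow_inf_eq_pow_smul (I.ideal V) (LinearMap.range (appLin ι V.1))
  let c := C.sup c₀
  refine ⟨c, fun n hn => ?_⟩
  let a : ∀ m : ℕ, (Dual3.idealMul (I ^ m)).obj F ⟶ F := fun m => Dual3.idealMulι (I ^ m) F
  haveI : ∀ m, Mono (a m) := fun m => Dual3.mono_idealMulι _ _
  haveI : ∀ m, Coh.IsQCoh (kernel (a m ≫ cokernel.π ι)) := fun m =>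
    haveI := isQCoh_idealMul (I ^ m) F
    QCohLib.isQCoh_kernel _
  haveI hPq : Coh.IsQCoh (Subobject.underlying.obj (Subobject.mk (a c) ⊓ Subobject.mk ι)) :=
    QCohLib.isQCoh_of_iso (Subobject.isoOfEqMk _ _ (mk_inf (a c) ι)).symm
  haveI := isQCoh_idealMul (I ^ (n - c)) (Subobject.underlying.obj (Subobject.mk (a c) ⊓ Subobject.mk ι))
  rw [mk_inf (a n) ι]
  refine mk_eq_mk _ _ (C := (C : Set X.affineOpens)) hC fun V hV => ?_
  rw [range_comp_idealMulι, range_inf, range_idealMulι]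
  have hP : LinearMap.range (appLin (Subobject.mk (a c) ⊓ Subobject.mk ι).arrow V.1) =
      (I ^ c).ideal V • ⊤ ⊓ LinearMap.range (appLin ι V.1) := by
    let e := Subobject.isoOfEqMk _ _ (mk_inf (a c) ι)
    have he : e.hom ≫ (kernel.ι (a c ≫ cokernel.π ι) ≫ a c) = (Subobject.mk (a c) ⊓ Subobject.mk ι).arrow :=
      Subobject.ofLEMk_comp _
    rw [← range_idealMulι, ← range_inf]
    refine le_antisymm ?_ ?_
    · rintro _ ⟨w, rfl⟩
      exact ⟨e.hom.app V.1 w,
        congrArg (fun θ : Subobject.underlying.obj (Subobject.mk (a c) ⊓ Subobject.mk ι) ⟶ F => θ.app V.1 w) he⟩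
    · rintro _ ⟨w, rfl⟩
      exact ⟨e.inv.app V.1 w, congrArg (fun θ : kernel (a c ≫ cokernel.π ι) ⟶ F => θ.app V.1 w)
        ((Iso.inv_comp_eq e).mpr he.symm)⟩
  rw [hP, pow_ideal, pow_ideal, pow_ideal]
  have h0 : c₀ V ≤ c := Finset.le_sup hV
  rw [hc₀ V n (h0.trans hn), hc₀ V c h0, ← Submodule.mul_smul, ← pow_add]
  congr 2
  omega

end CohExtLib
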