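import Groth.Agent.DevissLib.AnnIdeal
import Groth.Agent.DevissLib.Filtration
import Groth.Agent.DevissExtLib.Tools
import Groth.Agent.FormalCohLib.QuotK
import Groth.Prelude.Def_Dual3

/-!
# Submodules `I · M` and powers of ideal sheaves

Basic facts about `Dual3.idealMul`, killing powers of ideal sheaves, and local (on an open) tests of
monomorphisms and isomorphisms, used for extending homomorphisms of coherent modules from opens.
-/

set_option autoImplicit false
set_option linter.style.haveILetI false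
set_option backward.isDefEq.respectTransparency false

universe u

open CategoryTheory CategoryTheory.Limits AlgebraicGeometry TopologicalSpace Opposite

noncomputable section

namespace CohExtLib

open DevissLib (St gm)
open FormalCohLib (quotK quotKπ)

variable {X : Scheme.{u}}

theorem hom_eq_zero_of_affine {M N : X.Modules} (φ : M ⟶ N)
    (h : ∀ U : X.Opens, IsAffineOpen U → ∀ s : Γ(M, U), φ.app U s = 0) : φ = 0 := by
  ext U s
  show φ.app U s = 0
  refine TopCat.Presheaf.section_ext ((QCohLib.toAbF X).obj N : TopCat.Sheaf AddCommGrpCat _) U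
    (φ.app U s) 0 fun p hp => ?_
  obtain ⟨V, hV, hpV, hVU⟩ := Opens.isBasis_iff_nbhd.mp X.isBasis_affineOpens hp
  have h1 : N.presheaf.map (homOfLE hVU).op (φ.app U s) = 0 :=
    (QCohLib.app_map φ (homOfLE hVU) s).symm.trans (h V hV _)
  exact ((DevissLib.gm_map N hVU p hpV (φ.app U s)).symm.trans
    ((congrArg (gm N p hpV) h1).trans ((DevissLib.gm_zero N p hpV).trans (DevissLib.gm_zero N p hp).symm)) :)

theorem eq_zero_of_gm {M : X.Modules} {U : X.Opens} (s : Γ(M, U))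
    (h : ∀ (p : X) (hp : p ∈ U), gm M p hp s = 0) : s = 0 :=
  TopCat.Presheaf.section_ext ((QCohLib.toAbF X).obj M : TopCat.Sheaf AddCommGrpCat _) U s 0
    fun p hp => ((h p hp).trans (DevissLib.gm_zero M p hp).symm :)

/-! ### `I · M` -/

theorem idealMulι_π (J : X.IdealSheafData) (M : X.Modules) :
    Dual3.idealMulι J M ≫ quotKπ J M = 0 :=
  kernel.condition _

theorem exists_app_idealMulι {J : X.IdealSheafData} {M : X.Modules} {V : X.Opens} (z : Γ(M, V))
    (hz : (quotKπ J M).app V z = 0) :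
    ∃ w : Γ((Dual3.idealMul J).obj M, V), (Dual3.idealMulι J M).app V w = z :=
  QCohLib.exists_of_app_eq_zero (S := ShortComplex.mk _ _ (idealMulι_π J M))
    (ShortComplex.exact_of_f_is_kernel _ (kernelIsKernel _)) (Dual3.mono_idealMulι J M) z hz

theorem π_app_idealMulι (J : X.IdealSheafData) (M : X.Modules) {V : X.Opens}
    (w : Γ((Dual3.idealMul J).obj M, V)) : (quotKπ J M).app V ((Dual3.idealMulι J M).app V w) = 0 :=
  congrArg (fun φ : (Dual3.idealMul J).obj M ⟶ (quotK J).obj M => φ.app V w) (idealMulι_π J M)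

/-- Sections of `J · M` on affine opens. -/
theorem app_idealMulι_mem (J : X.IdealSheafData) (M : X.Modules) [Coh.IsQCoh M] {V : X.Opens}
    (hV : IsAffineOpen V) (w : Γ((Dual3.idealMul J).obj M, V)) :
    (Dual3.idealMulι J M).app V w ∈ J.ideal ⟨V, hV⟩ • (⊤ : Submodule Γ(X, V) Γ(M, V)) :=
  (FormalCohLib.app_quotKπ_eq_zero J M hV _).mp (π_app_idealMulι J M w)

theorem exists_of_mem (J : X.IdealSheafData) (M : X.Modules) [Coh.IsQCoh M] {V : X.Opens}
    (hV : IsAffineOpen V) {z : Γ(M, V)} (hz : z ∈ J.ideal ⟨V, hV⟩ • (⊤ : Submodule Γ(X, V) Γ(M, V))) :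
    ∃ w : Γ((Dual3.idealMul J).obj M, V), (Dual3.idealMulι J M).app V w = z :=
  exists_app_idealMulι z ((FormalCohLib.app_quotKπ_eq_zero J M hV _).mpr hz)

theorem isQCoh_idealMul (J : X.IdealSheafData) (M : X.Modules) [Coh.IsQCoh M] :
    Coh.IsQCoh ((Dual3.idealMul J).obj M) :=
  haveI := FormalCohLib.isQCoh_quotK J M
  QCohLib.isQCoh_kernel (quotKπ J M)

theorem isCoh_idealMul [IsLocallyNoetherian X] (J : X.IdealSheafData) {M : X.Modules}
    (hM : Coh.IsCoh M) : Coh.IsCoh ((Dual3.idealMul J).obj M) :=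
  haveI := hM.1
  QCohLib.isCoh_of_mono (Dual3.idealMulι J M) hM (isQCoh_idealMul J M)

/-! ### Killed modules -/

theorem comp_eq_zero {J : X.IdealSheafData} {M Q : X.Modules} (hQ : ClSub.KilledByIdeal J Q)
    (φ : M ⟶ Q) : Dual3.idealMulι J M ≫ φ = 0 := by
  obtain ⟨ψ, hψ, -⟩ := FormalCohLib.existsUnique_quotK J hQ φ
  rw [← hψ, ← Category.assoc, idealMulι_π, zero_comp]

theorem killed_mono {J J' : X.IdealSheafData} {Q : X.Modules} (hQ : ClSub.KilledByIdeal J Q)
    (h : J' ≤ J) : ClSub.KilledByIdeal J' Q :=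
  fun U a ha => hQ U a (h U ha)

theorem idealMulι_comp_π_of_le {J J' : X.IdealSheafData} (h : J' ≤ J) (M : X.Modules) :
    Dual3.idealMulι J' M ≫ quotKπ J M = 0 :=
  comp_eq_zero (killed_mono (FormalCohLib.killed_quotK J M) h) _

/-- `J' · M ⟶ J · M` for `J' ≤ J`. -/
def inclMul {J J' : X.IdealSheafData} (h : J' ≤ J) (M : X.Modules) :
    (Dual3.idealMul J').obj M ⟶ (Dual3.idealMul J).obj M :=
  kernel.lift _ (Dual3.idealMulι J' M) (idealMulι_comp_π_of_le h M)

@[reassoc]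
theorem inclMul_ι {J J' : X.IdealSheafData} (h : J' ≤ J) (M : X.Modules) :
    inclMul h M ≫ Dual3.idealMulι J M = Dual3.idealMulι J' M :=
  kernel.lift_ι _ _ _

theorem pow_ideal (J : X.IdealSheafData) (n : ℕ) (U : X.affineOpens) :
    (J ^ n).ideal U = J.ideal U ^ n :=
  DevissExt.pow_ideal J n U

theorem pow_pow (J : X.IdealSheafData) (m n : ℕ) : (J ^ m) ^ n = J ^ (m * n) :=
  Scheme.IdealSheafData.ext (funext fun U => by rw [pow_ideal, pow_ideal, pow_ideal, pow_mul])

theorem pow_le_pow {J : X.IdealSheafData} {m n : ℕ} (h : m ≤ n) : J ^ n ≤ J ^ m := fun U => by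
  rw [pow_ideal, pow_ideal]
  exact Ideal.pow_le_pow_right h

theorem exists_affine_cover [CompactSpace X] :
    ∃ C : Finset X.affineOpens, ∀ x : X, ∃ V ∈ C, x ∈ V.1 := by
  classical
  choose U hU hx using fun x : X => QCohLib.exists_affine_nhd x
  obtain ⟨t, ht⟩ := isCompact_univ.elim_finite_subcover
    (fun x : X => (U x : Set X)) (fun x => (U x).2) fun x _ => Set.mem_iUnion.2 ⟨x, hx x⟩
  refine ⟨t.image fun x => ⟨U x, hU x⟩, fun y => ?_⟩
  obtain ⟨x, hxt, hy⟩ := Set.mem_iUnion₂.1 (ht (Set.mem_univ y))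
  exact ⟨⟨U x, hU x⟩, Finset.mem_image_of_mem _ hxt, hy⟩

theorem exists_pow_le [IsNoetherian X] {I J : X.IdealSheafData}
    (h : (J.support : Set X) ⊆ (I.support : Set X)) : ∃ n : ℕ, I ^ n ≤ J := by
  classical
  obtain ⟨C, hC⟩ := exists_affine_cover (X := X)
  have h1 : I ≤ J.radical := by
    rw [← Scheme.IdealSheafData.vanishingIdeal_support]
    exact Scheme.IdealSheafData.le_support_iff_le_vanishingIdeal.mp h
  have h2 : ∀ V : X.affineOpens, ∃ n : ℕ, I.ideal V ^ n ≤ J.ideal V := fun V => by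
    haveI : IsNoetherianRing Γ(X, V.1) := IsLocallyNoetherian.component_noetherian V
    refine Ideal.exists_pow_le_of_le_radical_of_fg ?_ (IsNoetherian.noetherian _)
    exact (h1 V).trans_eq (by simp [Scheme.IdealSheafData.radical_ideal])
  choose n hn using h2
  refine ⟨C.sup n, Scheme.IdealSheafData.le_of_iSup_eq_top (fun V : C => V.1) ?_ fun V => ?_⟩
  · refine eq_top_iff.mpr fun x _ => ?_
    obtain ⟨V, hV, hx⟩ := hC x
    exact Opens.mem_iSup.mpr ⟨⟨V, hV⟩, hx⟩
  · rw [pow_ideal]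
    exact (Ideal.pow_le_pow_right (Finset.le_sup V.2)).trans (hn V.1)

theorem exists_killed_pow [IsNoetherian X] {I : X.IdealSheafData} {Q : X.Modules} (hQ : Coh.IsCoh Q)
    (h : CohB1.support Q ⊆ (I.support : Set X)) : ∃ N : ℕ, ClSub.KilledByIdeal (I ^ N) Q := by
  haveI := hQ.1
  obtain ⟨N, hN⟩ := exists_pow_le (I := I) (J := DevissLib.annIdeal Q hQ.2)
    (by rw [DevissLib.support_annIdeal]; exact h)
  exact ⟨N, killed_mono (DevissLib.killed_annIdeal Q hQ.2) hN⟩

/-- Artin–Rees: a coherent submodule killed by `J` meets `J^n G` trivially for `n ≫ 0`. -/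
theorem exists_mono_π [IsNoetherian X] {K G : X.Modules} (hK : Coh.IsCoh K) (hG : Coh.IsCoh G)
    (k : K ⟶ G) [Mono k] {J : X.IdealSheafData} (hJ : ClSub.KilledByIdeal J K) :
    ∃ n : ℕ, Mono (k ≫ quotKπ (J ^ n) G) := by
  classical
  haveI := hK.1
  haveI := hG.1
  obtain ⟨C, hC⟩ := exists_affine_cover (X := X)
  have hAR : ∀ V : X.affineOpens, ∃ c : ℕ, ∀ n, c < n → ∀ z : Γ(K, V.1),
      k.app V.1 z ∈ (J.ideal V ^ n • ⊤ : Submodule Γ(X, V.1) Γ(G, V.1)) → z = 0 := by
    intro V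
    haveI : IsNoetherianRing Γ(X, V.1) := IsLocallyNoetherian.component_noetherian V
    haveI := QCohLib.finite_of_isFT hG.2 V.2
    let κ := QCohLib.appLin k V.1
    obtain ⟨c, hc⟩ := Ideal.exists_pow_inf_eq_pow_smul (J.ideal V) (LinearMap.range κ)
    refine ⟨c, fun n hn z hz => QCohLib.app_injective_of_mono k V.1 ?_⟩
    have h1 : k.app V.1 z ∈ J.ideal V ^ n • ⊤ ⊓ LinearMap.range κ := ⟨hz, ⟨z, rfl⟩⟩
    rw [hc n hn.le] at h1
    have h2 : J.ideal V ^ (n - c) • (J.ideal V ^ c • ⊤ ⊓ LinearMap.range κ) ≤ ⊥ := by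
      refine Submodule.smul_le.2 fun r hr w hw => ?_
      obtain ⟨y, rfl⟩ := hw.2
      rw [Submodule.mem_bot, ← map_smul]
      exact (congrArg _ (hJ V r (Ideal.pow_le_self (by omega) hr) y)).trans (map_zero _)
    rw [map_zero]
    exact h2 h1
  choose c hc using hAR
  refine ⟨C.sup c + 1, ?_⟩
  haveI := FormalCohLib.isQCoh_quotK (J ^ (C.sup c + 1)) G
  refine DevissExt.mono_of_app_injective _ fun x => ?_
  obtain ⟨V, hV, hx⟩ := hC x
  refine ⟨V.1, V.2, hx, (injective_iff_map_eq_zero _).2 fun z hz => ?_⟩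
  refine hc V (C.sup c + 1) (Nat.lt_succ_of_le (Finset.le_sup hV)) z ?_
  have h := (FormalCohLib.app_quotKπ_eq_zero (J ^ (C.sup c + 1)) G V.2 _).1 hz
  rwa [pow_ideal] at h

/-- A map with kernel supported in `V(I)` is injective on `I^n H` for `n ≫ 0`. -/
theorem exists_mono_idealMulι_comp [IsNoetherian X] {H G : X.Modules} (hH : Coh.IsCoh H)
    [Coh.IsQCoh G] (p : H ⟶ G) {I : X.IdealSheafData}
    (hk : CohB1.support (kernel p) ⊆ (I.support : Set X)) :
    ∃ m : ℕ, Mono (Dual3.idealMulι (I ^ m) H ≫ p) := by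
  have hK : Coh.IsCoh (kernel p) := QCohLib.isCoh_kernel p hH inferInstance
  obtain ⟨N, hN⟩ := exists_killed_pow hK hk
  obtain ⟨n, hn⟩ := exists_mono_π hK hH (kernel.ι p) hN
  rw [pow_pow] at hn
  refine ⟨N * n, Preadditive.mono_of_cancel_zero _ fun {W} w hw => ?_⟩
  rw [← Category.assoc] at hw
  obtain ⟨w', hw'⟩ : ∃ w' : W ⟶ kernel p, w' ≫ kernel.ι p = w ≫ Dual3.idealMulι (I ^ (N * n)) H :=
    ⟨kernel.lift p _ hw, kernel.lift_ι _ _ _⟩
  have h0 : w' ≫ (kernel.ι p ≫ quotKπ (I ^ (N * n)) H) = 0 := by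
    rw [← Category.assoc, hw', Category.assoc, idealMulι_π, comp_zero]
  rw [zero_of_comp_mono _ h0, zero_comp] at hw'
  exact (cancel_mono (Dual3.idealMulι (I ^ (N * n)) H)).mp (hw'.symm.trans zero_comp.symm)

/-! ### Restriction to an open -/

variable {U : X.Opens}

theorem preimage_image {V : X.Opens} (hV : V ≤ U) : U.ι ''ᵁ (U.ι ⁻¹ᵁ V) = V :=
  (U.ι.image_preimage_eq_opensRange_inf V).trans (by rw [Scheme.Opens.opensRange_ι, inf_eq_right.mpr hV])

theorem bijective_app {M N : X.Modules} (φ : M ⟶ N)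
    [hi : IsIso ((Scheme.Modules.restrictFunctor U.ι).map φ)] {V : X.Opens} (hV : V ≤ U) :
    Function.Bijective (φ.app V) := by
  have h := (ConcreteCategory.isIso_iff_bijective _).mp
    (Scheme.Modules.Hom.isIso_iff_isIso_app.mp hi (U.ι ⁻¹ᵁ V))
  have h' : Function.Bijective (φ.app (U.ι ''ᵁ (U.ι ⁻¹ᵁ V))) := h
  rwa [preimage_image hV] at h'

theorem isIso_restrict {M N : X.Modules} (φ : M ⟶ N)
    (h : ∀ V : X.Opens, V ≤ U → Function.Bijective (φ.app V)) :
    IsIso ((Scheme.Modules.restrictFunctor U.ι).map φ) :=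
  Scheme.Modules.Hom.isIso_iff_isIso_app.mpr fun W => (ConcreteCategory.isIso_iff_bijective _).mpr
    (h (U.ι ''ᵁ W) (by rintro _ ⟨z, -, rfl⟩; exact z.2))

theorem bijective_app_of_stalks {M N : X.Modules} (φ : M ⟶ N)
    (h : ∀ x ∈ U, Function.Bijective ((St x).map φ).hom) {V : X.Opens} (hV : V ≤ U) :
    Function.Bijective (φ.app V) := by
  refine (TopCat.Presheaf.app_bijective_of_stalkFunctor_map_bijective
    (F := ((QCohLib.toAbF X).obj M : TopCat.Sheaf AddCommGrpCat _))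
    (G := ((QCohLib.toAbF X).obj N : TopCat.Sheaf AddCommGrpCat _)) ((QCohLib.toAbF X).map φ) V ?_)
  intro x hx
  have := h x (hV hx)
  exact this

theorem isIso_restrict_of_stalks {M N : X.Modules} (φ : M ⟶ N)
    (h : ∀ x ∈ U, Function.Bijective ((St x).map φ).hom) :
    IsIso ((Scheme.Modules.restrictFunctor U.ι).map φ) :=
  isIso_restrict φ fun _ hV => bijective_app_of_stalks φ h hV

theorem bijective_stalk {M N : X.Modules} (φ : M ⟶ N)
    [IsIso ((Scheme.Modules.restrictFunctor U.ι).map φ)] {x : X} (hx : x ∈ U) :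
    Function.Bijective ((St x).map φ).hom := by
  refine ⟨(injective_iff_map_eq_zero _).2 fun a ha => ?_, fun b => ?_⟩
  · obtain ⟨V, hxV, s, rfl⟩ := DevissLib.exists_gm_eq M x a
    rw [DevissLib.gm_app] at ha
    obtain ⟨W, hxW, i₁, i₂, hW⟩ := TopCat.Presheaf.germ_eq N.presheaf x hxV hxV _ 0
      (ha.trans (DevissLib.gm_zero N x hxV).symm)
    rw [map_zero] at hW
    have h1 : φ.app (W ⊓ U) (M.presheaf.map (homOfLE (inf_le_left.trans i₁.le : W ⊓ U ≤ V)).op s) = 0 := by
      rw [QCohLib.app_map]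
      have h2 := congrArg (N.presheaf.map (homOfLE (inf_le_left : W ⊓ U ≤ W)).op) hW
      rw [map_zero] at h2
      exact ((QCohLib.map_map' N _ i₁ (φ.app V s)).symm.trans h2 :)
    have h3 := (bijective_app φ (inf_le_right : W ⊓ U ≤ U)).1 (h1.trans (map_zero _).symm)
    rw [← DevissLib.gm_map M (inf_le_left.trans i₁.le : W ⊓ U ≤ V) x ⟨hxW, hx⟩ s, h3]
    exact DevissLib.gm_zero M x _
  · obtain ⟨V, hxV, s, rfl⟩ := DevissLib.exists_gm_eq N x b
    obtain ⟨t, ht⟩ := (bijective_app φ (inf_le_right : V ⊓ U ≤ U)).2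
      (N.presheaf.map (homOfLE inf_le_left).op s)
    refine ⟨gm M x (U := V ⊓ U) ⟨hxV, hx⟩ t, ?_⟩
    rw [DevissLib.gm_app, ht, DevissLib.gm_map]

theorem support_kernel_subset {M N : X.Modules} (φ : M ⟶ N)
    [IsIso ((Scheme.Modules.restrictFunctor U.ι).map φ)] :
    CohB1.support (kernel φ) ⊆ (U : Set X)ᶜ := fun x hx hxU =>
  DevissLib.notMem_support_kernel φ x (bijective_stalk φ hxU).1 hx

theorem support_cokernel_subset {M N : X.Modules} (φ : M ⟶ N)
    [IsIso ((Scheme.Modules.restrictFunctor U.ι).map φ)] :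
    CohB1.support (cokernel φ) ⊆ (U : Set X)ᶜ := fun x hx hxU =>
  DevissLib.notMem_support_cokernel φ x (bijective_stalk φ hxU).2 hx

end CohExtLib
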