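import Groth.Agent.CohExtLib.Local
import Groth.Agent.CycK0Lib.Sigma
import Groth.Agent.DevissExtLib.Main

/-!
# Maps of coherent modules isomorphic at a point
-/

set_option autoImplicit false
set_option linter.style.haveILetI false
set_option backward.isDefEq.respectTransparency false

universe u

open CategoryTheory CategoryTheory.Limits AlgebraicGeometry TopologicalSpace Opposite

noncomputable section

namespace CohExtLib

open DevissLib (St gm)
open FormalCohLib (quotKπ)

variable {X : Scheme.{u}}

theorem bijective_stalk_idealMulι (J : X.IdealSheafData) (M : X.Modules) {η : X}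
    (h : η ∉ (J.support : Set X)) : Function.Bijective ((St η).map (Dual3.idealMulι J M)).hom := by
  haveI := isIso_restrict_idealMulι J M (U := ⟨(J.support : Set X)ᶜ, J.support.isClosed.isOpen_compl⟩)
    fun x hx => hx
  exact bijective_stalk _ (U := ⟨(J.support : Set X)ᶜ, J.support.isClosed.isOpen_compl⟩) h

/-- Coherent modules with isomorphic stalks at `η` are connected by a map out of `J · A`, bijective at `η`. -/
theorem exists_hom_idealMul [IsNoetherian X] {A B : X.Modules} (hA : Coh.IsCoh A) (hB : Coh.IsCoh B)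
    (η : X) (e : (St η).obj A ≃ₗ[X.presheaf.stalk η] (St η).obj B) :
    ∃ (J : X.IdealSheafData) (β : (Dual3.idealMul J).obj A ⟶ B),
      η ∉ (J.support : Set X) ∧ Function.Bijective ((St η).map β).hom := by
  obtain ⟨H, p₁, p₂, hH, -, -, hb₁, hb₂⟩ := DevissExt.exists_bridge_iso hA hB η e
  haveI := hH.1
  haveI := hA.1
  have hK := QCohLib.isCoh_kernel p₁ hH hA.1
  haveI := hK.1
  let J₁ := DevissLib.annIdeal (kernel p₁) hK.2
  have hη₁ : η ∉ (J₁.support : Set X) := by
    show η ∉ ((DevissLib.annIdeal (kernel p₁) hK.2).support : Set X)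
    rw [DevissLib.support_annIdeal]
    exact DevissLib.notMem_support_kernel p₁ η hb₁.1
  obtain ⟨n, hn⟩ := exists_mono_π hK hH (kernel.ι p₁) (DevissLib.killed_annIdeal (kernel p₁) hK.2)
  haveI hn' : Mono (kernel.ι p₁ ≫ quotKπ (J₁ ^ n) H) := hn
  let a := Dual3.idealMulι (J₁ ^ n) H ≫ p₁
  haveI : Mono a := Preadditive.mono_of_cancel_zero _ fun {W} w hw => by
    have hw1 : (w ≫ Dual3.idealMulι (J₁ ^ n) H) ≫ p₁ = 0 := by rw [Category.assoc]; exact hw
    have hw' := kernel.lift_ι p₁ _ hw1
    have h0 : kernel.lift p₁ _ hw1 ≫ (kernel.ι p₁ ≫ quotKπ (J₁ ^ n) H) = 0 := by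
      rw [← Category.assoc, hw', Category.assoc, idealMulι_π, comp_zero]
    rw [zero_of_comp_mono _ h0, zero_comp] at hw'
    exact (cancel_mono (Dual3.idealMulι (J₁ ^ n) H)).mp (hw'.symm.trans zero_comp.symm)
  have hbn := bijective_stalk_idealMulι (J₁ ^ n) H (notMem_support_pow n hη₁)
  have hba : Function.Bijective ((St η).map a).hom := by
    simp only [a, Functor.map_comp, ModuleCat.hom_comp, LinearMap.coe_comp]
    exact hb₁.comp hbn
  have hC := QCohLib.isCoh_cokernel a (isQCoh_idealMul _ H) hA
  haveI := hC.1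
  let J := DevissLib.annIdeal (cokernel a) hC.2
  have hη : η ∉ (J.support : Set X) := by
    show η ∉ ((DevissLib.annIdeal (cokernel a) hC.2).support : Set X)
    rw [DevissLib.support_annIdeal]
    exact DevissLib.notMem_support_cokernel a η hba.2
  let l := Abelian.monoLift a (Dual3.idealMulι J A)
    (comp_eq_zero (DevissLib.killed_annIdeal (cokernel a) hC.2) _)
  refine ⟨J, l ≫ Dual3.idealMulι (J₁ ^ n) H ≫ p₂, hη, ?_⟩
  have hl : Function.Bijective ((St η).map l).hom := by
    have h := bijective_stalk_idealMulι J A hη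
    rw [← Abelian.monoLift_comp a (Dual3.idealMulι J A)
      (comp_eq_zero (DevissLib.killed_annIdeal (cokernel a) hC.2) _), Functor.map_comp, ModuleCat.hom_comp,
      LinearMap.coe_comp] at h
    exact (Function.Bijective.of_comp_iff' hba _).mp h
  simp only [Functor.map_comp, ModuleCat.hom_comp, LinearMap.coe_comp]
  exact (hb₂.comp hbn).comp hl

/-- The stalks of a finite sum of copies. -/
theorem finrank_stalk_sigma {ι : Type u} [Fintype ι] (M : X.Modules) (x : X)
    [StrongRankCondition (X.presheaf.stalk x)] [Module.Free (X.presheaf.stalk x) ((St x).obj M)]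
    [Module.Finite (X.presheaf.stalk x) ((St x).obj M)] :
    Module.finrank (X.presheaf.stalk x) ((St x).obj (∐ fun _ : ι => M)) =
      Fintype.card ι * Module.finrank (X.presheaf.stalk x) ((St x).obj M) := by
  rw [(CycK0Lib.stalkEquiv (F := fun _ : ι => M) (S := Finset.univ) (x := x)
    fun i hi => absurd (Finset.mem_univ i) hi).finrank_eq, Module.finrank_pi_fintype]
  simp

theorem preservesCoproduct_push {Y : Scheme.{u}} (f : Y ⟶ X) {ι : Type*} [Finite ι] (F : ι → Y.Modules) :
    PreservesColimit (Discrete.functor F) (Coh.push f) := by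
  haveI : (Coh.push f).IsRightAdjoint :=
    (Scheme.Modules.pullbackPushforwardAdjunction f).isRightAdjoint
  haveI : (Coh.push f).Additive := Functor.additive_of_preserves_binary_products _
  infer_instance

/-- `J · A` is a finite sum when `A` is. -/
def idealMulSigmaIso (J : X.IdealSheafData) {ι : Type*} [Finite ι] (M : X.Modules) :
    (Dual3.idealMul J).obj (∐ fun _ : ι => M) ≅ ∐ fun _ : ι => (Dual3.idealMul J).obj M :=
  (PreservesCoproduct.iso (Dual3.idealMul J) fun _ : ι => M)

end CohExtLib
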