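import Groth.Agent.CohExtLib.Basic

/-!
# Coherent graphs of homomorphisms defined on an open
-/

set_option autoImplicit false
set_option linter.style.haveILetI false
set_option backward.isDefEq.respectTransparency false

universe u

open CategoryTheory CategoryTheory.Limits AlgebraicGeometry TopologicalSpace Opposite

noncomputable section

namespace CohExtLib

variable {X : Scheme.{u}}

theorem isCompact_inf [IsLocallyNoetherian X] {W : X.Opens} (hW : IsAffineOpen W) (O : X.Opens) :
    IsCompact ((W ⊓ O : X.Opens) : Set X) := by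
  haveI : IsNoetherianRing Γ(X, W) := IsLocallyNoetherian.component_noetherian ⟨W, hW⟩
  haveI := noetherianSpace_of_isAffineOpen W hW
  have h := ((TopologicalSpace.NoetherianSpace.isCompact
    (Subtype.val ⁻¹' (O : Set X) : Set W)).image continuous_subtype_val)
  rw [show ((W ⊓ O : X.Opens) : Set X) = (W : Set X) ∩ (O : Set X) from rfl, ← Subtype.image_preimage_coe]
  exact h

/-- A homomorphism over an open is carried by a coherent module mapping to source and target,
isomorphically to the source over the open. -/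
theorem exists_graph [IsLocallyNoetherian X] {F G : X.Modules} (hG : Coh.IsCoh G) [Coh.IsQCoh F]
    (U : X.Opens)
    (φ : (Scheme.Modules.restrictFunctor U.ι).obj G ⟶ (Scheme.Modules.restrictFunctor U.ι).obj F) :
    ∃ (H : X.Modules) (p₁ : H ⟶ G) (p₂ : H ⟶ F), Coh.IsCoh H ∧
      IsIso ((Scheme.Modules.restrictFunctor U.ι).map p₁) ∧
      (Scheme.Modules.restrictFunctor U.ι).map p₂ =
        (Scheme.Modules.restrictFunctor U.ι).map p₁ ≫ φ := by
  classical
  haveI := hG.1
  let R := Scheme.Modules.restrictFunctor U.ι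
  let adj := Scheme.Modules.restrictAdjunction U.ι
  haveI : Coh.IsQCoh (R.obj F) :=
    haveI := KFlatLib.isQCoh_pullback U.ι F
    QCohLib.isQCoh_of_iso ((Scheme.Modules.restrictFunctorIsoPullback U.ι).app F).symm
  let P := (Scheme.Modules.pushforward U.ι).obj (R.obj F)
  haveI : Coh.IsQCoh P := QCohLib.isQCoh_pushforward U.ι (R.obj F)
  let a : G ⟶ P := adj.homEquiv G (R.obj F) φ
  let b : F ⟶ P := adj.unit.app F
  have htri : R.map b ≫ adj.counit.app (R.obj F) = 𝟙 (R.obj F) := adj.left_triangle_components F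
  have hcounit : IsIso (adj.counit.app (R.obj F)) := inferInstance
  haveI : IsIso (R.map b) := IsIso.of_isIso_fac_right htri
  have hRa : R.map a = φ ≫ R.map b := by
    apply (cancel_mono (adj.counit.app (R.obj F))).1
    rw [Category.assoc, htri, Category.comp_id]
    exact (adj.homEquiv_counit G (R.obj F) a).symm.trans ((adj.homEquiv G (R.obj F)).symm_apply_apply φ)
  let d : G ⊞ F ⟶ P := biprod.desc a (-b)
  haveI : Coh.IsQCoh (G ⊞ F) := QCohLib.isQCoh_biprod G F
  let Hf := kernel d
  haveI : Coh.IsQCoh Hf := QCohLib.isQCoh_kernel d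
  let q₁ : Hf ⟶ G := kernel.ι d ≫ biprod.fst
  let q₂ : Hf ⟶ F := kernel.ι d ≫ biprod.snd
  have hq : q₁ ≫ a = q₂ ≫ b := by
    have h : kernel.ι d ≫ d = 0 := kernel.condition d
    have h' : d = biprod.fst ≫ a - biprod.snd ≫ b := by
      simp only [d, biprod.desc_eq, Preadditive.comp_neg, sub_eq_add_neg]
    have h2 : kernel.ι d ≫ (biprod.fst ≫ a - biprod.snd ≫ b) = 0 :=
      (congrArg (kernel.ι d ≫ ·) h').symm.trans h
    rw [Preadditive.comp_sub, sub_eq_zero, ← Category.assoc, ← Category.assoc] at h2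
    exact h2
  have hbij : ∀ V : X.Opens, V ≤ U → Function.Bijective (q₁.app V) := by
    intro V hV
    refine ⟨(injective_iff_map_eq_zero _).2 fun z hz => ?_, fun g => ?_⟩
    · have h2 : q₂.app V z = 0 := (bijective_app b hV).1 (by
        rw [map_zero]
        refine (congrArg (fun θ : Hf ⟶ P => θ.app V z) hq).symm.trans ?_
        exact (congrArg (a.app V) hz).trans (map_zero _))
      refine QCohLib.app_injective_of_mono (kernel.ι d) V ?_
      rw [map_zero]
      exact DevissLib.app_biprod_ext _ hz h2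
    · obtain ⟨f, hf⟩ := (bijective_app b hV).2 (a.app V g)
      let w : Γ(G ⊞ F, V) := (biprod.inl : G ⟶ G ⊞ F).app V g + (biprod.inr : F ⟶ G ⊞ F).app V f
      have hw : d.app V w = 0 := by
        simp only [w, map_add]
        refine (congr_arg₂ (· + ·) (congrArg (fun θ : G ⟶ P => θ.app V g) (biprod.inl_desc a (-b)))
          (congrArg (fun θ : F ⟶ P => θ.app V f) (biprod.inr_desc a (-b)))).trans ?_
        show a.app V g + -(b.app V f) = 0
        rw [hf, add_neg_cancel]
      obtain ⟨z, hz⟩ := QCohLib.exists_of_app_eq_zero (S := ShortComplex.mk _ _ (kernel.condition d))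
        (ShortComplex.exact_of_f_is_kernel _ (kernelIsKernel d)) (equalizer.ι_mono) w hw
      refine ⟨z, ?_⟩
      refine (congrArg ((biprod.fst : G ⊞ F ⟶ G).app V) hz).trans ?_
      rw [map_add]
      refine (congr_arg₂ (· + ·) (congrArg (fun θ : G ⟶ G => θ.app V g) biprod.inl_fst)
        (congrArg (fun θ : F ⟶ G => θ.app V f) biprod.inr_fst)).trans ?_
      exact add_zero _
  let S₀ : QCohLib.LocSub Hf :=
    { mem := fun _ _ => True
      zero := fun _ => trivial
      add := fun _ _ => trivial
      smul := fun _ _ _ => trivial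
      res := fun _ _ _ => trivial
      local' := fun _ _ => trivial }
  have hft : QCohLib.LocSub.FTBelow S₀ U := by
    intro p hp
    obtain ⟨U', hU', hpU', hU'U⟩ := Opens.isBasis_iff_nbhd.mp X.isBasis_affineOpens hp
    obtain ⟨I, _, s, hs⟩ := QCohLib.exists_genOn_affine hG.2 hU'
    let e : ULift.{u} (Fin (Fintype.card I)) ≃ I := Equiv.ulift.trans (Fintype.equivFin I).symm
    choose t ht using fun k : ULift.{u} (Fin (Fintype.card I)) => (hbij U' hU'U).2 (s (e k))
    refine ⟨U', hU'U, hpU', Fintype.card I, t, fun _ => trivial, fun W hW z _ q hqW hqU' => ?_⟩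
    obtain ⟨O, hO, hOU', hqO, c, hc⟩ := hs W hW (q₁.app W z) q hqW
    refine ⟨O, hO, hOU', hqO, fun k => c (e k), (hbij O (hOU'.trans hU'U)).1 ?_⟩
    rw [QCohLib.app_map, hc, map_sum]
    refine (Equiv.sum_comp e _).symm.trans (Finset.sum_congr rfl fun k _ => ?_)
    rw [QCohLib.app_smul, QCohLib.app_map, ht]
  obtain ⟨S, hS, hagree⟩ := QCohLib.LocSub.exists_ftExtension
    (fun W O hW => isCompact_inf hW O) U S₀ (fun _ _ _ => trivial) hft
  refine ⟨S.toModules, S.ι ≫ q₁, S.ι ≫ q₂,
    ⟨QCohLib.LocSub.isQCoh_toModules S hS, QCohLib.LocSub.isFT_toModules S hS⟩,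
    isIso_restrict _ fun V hV => ?_, ?_⟩
  · have hi : Function.Bijective (S.ι.app V) :=
      ⟨S.ι_app_injective V, fun z => ⟨S.lift z ((hagree V hV z).mpr trivial), S.ι_lift _ _⟩⟩
    exact (hbij V hV).comp hi
  · apply (cancel_mono (R.map b)).1
    show R.map (S.ι ≫ q₂) ≫ R.map b = (R.map (S.ι ≫ q₁) ≫ φ) ≫ R.map b
    rw [Category.assoc, ← hRa, ← Functor.map_comp, ← Functor.map_comp]
    exact congrArg R.map ((Category.assoc S.ι q₂ b).trans
      ((congrArg (S.ι ≫ ·) hq.symm).trans (Category.assoc S.ι q₁ a).symm))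

end CohExtLib
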