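import Groth.Agent.CohExtLib.Graph

/-!
# Homomorphisms on the complement of `V(I)` as a colimit over `I^n G`
-/

set_option autoImplicit false
set_option linter.style.haveILetI false
set_option backward.isDefEq.respectTransparency false

universe u

open CategoryTheory CategoryTheory.Limits AlgebraicGeometry TopologicalSpace Opposite

noncomputable section

namespace CohExtLib

open DevissLib (St gm)
open FormalCohLib (quotK quotKπ)

variable {X : Scheme.{u}}

theorem notMem_support_pow {I : X.IdealSheafData} (n : ℕ) {x : X} (hx : x ∉ (I.support : Set X)) :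
    x ∉ ((I ^ n).support : Set X) := by
  rcases Nat.eq_zero_or_pos n with rfl | hn
  · intro h
    rw [show (I ^ 0 : X.IdealSheafData) = ⊤ from Scheme.IdealSheafData.ext (funext fun U => by
      rw [pow_ideal, pow_zero, Ideal.one_eq_top]; rfl), Scheme.IdealSheafData.support_top] at h
    exact h
  · rwa [Scheme.IdealSheafData.support_pow _ _ hn.ne']

theorem isIso_restrict_idealMulι (J : X.IdealSheafData) (M : X.Modules) {U : X.Opens}
    (h : ∀ x ∈ U, x ∉ (J.support : Set X)) :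
    IsIso ((Scheme.Modules.restrictFunctor U.ι).map (Dual3.idealMulι J M)) := by
  refine isIso_restrict _ fun V hV =>
    ⟨QCohLib.app_injective_of_mono _ V, fun z => exists_app_idealMulι z (eq_zero_of_gm _ fun p hp => ?_)⟩
  exact @Subsingleton.elim _ (not_not.mp (DevissExt.notMem_support_quot J (h p (hV hp)) M)) _ _

theorem support_cokernel_subset' {U : X.Opens} {I : X.IdealSheafData}
    (hU : (U : Set X) = (I.support : Set X)ᶜ) {M N : X.Modules} (φ : M ⟶ N)
    [IsIso ((Scheme.Modules.restrictFunctor U.ι).map φ)] :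
    CohB1.support (cokernel φ) ⊆ (I.support : Set X) :=
  (support_cokernel_subset φ (U := U)).trans (by rw [hU, compl_compl])

/-- **Extension** of a homomorphism defined on the complement of `V(I)` to `I^n G`. -/
theorem exists_extend_pow [IsNoetherian X] {F G : X.Modules} [Coh.IsQCoh F] (hG : Coh.IsCoh G)
    (I : X.IdealSheafData) (U : X.Opens) (hU : (U : Set X) = (I.support : Set X)ᶜ)
    (φ : (Scheme.Modules.restrictFunctor U.ι).obj G ⟶ (Scheme.Modules.restrictFunctor U.ι).obj F) :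
    ∃ (n : ℕ) (ψ : (Dual3.idealMul (I ^ n)).obj G ⟶ F),
      (Scheme.Modules.restrictFunctor U.ι).map ψ =
        (Scheme.Modules.restrictFunctor U.ι).map (Dual3.idealMulι (I ^ n) G) ≫ φ := by
  haveI := hG.1
  let R := Scheme.Modules.restrictFunctor U.ι
  obtain ⟨H, p₁, p₂, hH, hiso, hp⟩ := exists_graph hG U φ
  haveI := hH.1
  obtain ⟨m, hm⟩ := exists_mono_idealMulι_comp (I := I) hH p₁
    ((support_kernel_subset p₁ (U := U)).trans (by rw [hU, compl_compl]))
  haveI : IsIso (R.map (Dual3.idealMulι (I ^ m) H)) :=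
    isIso_restrict_idealMulι _ _ fun x hx => notMem_support_pow m fun h =>
      (hU.le hx : x ∈ (I.support : Set X)ᶜ) h
  let a := Dual3.idealMulι (I ^ m) H ≫ p₁
  haveI : IsIso (R.map a) := by
    show IsIso (R.map (Dual3.idealMulι (I ^ m) H ≫ p₁))
    rw [Functor.map_comp]
    infer_instance
  obtain ⟨N, hN⟩ := exists_killed_pow (QCohLib.isCoh_cokernel a (isQCoh_idealMul _ H) hG)
    (support_cokernel_subset' hU a)
  let l := Abelian.monoLift a (Dual3.idealMulι (I ^ N) G) (comp_eq_zero hN _)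
  refine ⟨N, l ≫ Dual3.idealMulι (I ^ m) H ≫ p₂, ?_⟩
  rw [Functor.map_comp, Functor.map_comp, hp]
  have h1 : R.map l ≫ R.map a = R.map (Dual3.idealMulι (I ^ N) G) := by
    rw [← Functor.map_comp, Abelian.monoLift_comp]
  rw [← h1]
  show _ = (R.map l ≫ R.map (Dual3.idealMulι (I ^ m) H ≫ p₁)) ≫ φ
  rw [Functor.map_comp, Category.assoc, Category.assoc]

theorem stalk_map_eq_zero {M N : X.Modules} (φ : M ⟶ N) {U : X.Opens}
    (h : (Scheme.Modules.restrictFunctor U.ι).map φ = 0) {x : X} (hx : x ∈ U) (a : (St x).obj M) :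
    ((St x).map φ).hom a = 0 := by
  obtain ⟨V, hxV, s, rfl⟩ := DevissLib.exists_gm_eq M x a
  rw [← DevissLib.gm_map M (inf_le_left : V ⊓ U ≤ V) x ⟨hxV, hx⟩, DevissLib.gm_app]
  have h1 : φ.app (U.ι ''ᵁ (U.ι ⁻¹ᵁ (V ⊓ U))) = 0 :=
    congrArg (fun θ : (Scheme.Modules.restrictFunctor U.ι).obj M ⟶ (Scheme.Modules.restrictFunctor U.ι).obj N =>
      θ.app (U.ι ⁻¹ᵁ (V ⊓ U))) h
  rw [preimage_image (inf_le_right : V ⊓ U ≤ U)] at h1
  rw [h1]
  exact DevissLib.gm_zero N x _

/-- **Uniqueness** of extensions up to higher powers of `I`. -/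
theorem exists_comp_eq_zero [IsNoetherian X] {F G : X.Modules} [Coh.IsQCoh F] (hG : Coh.IsCoh G)
    (I : X.IdealSheafData) (U : X.Opens) (hU : (U : Set X) = (I.support : Set X)ᶜ) (n : ℕ)
    (ψ : (Dual3.idealMul (I ^ n)).obj G ⟶ F)
    (hψ : (Scheme.Modules.restrictFunctor U.ι).map ψ = 0) :
    ∃ (N : ℕ) (ι : (Dual3.idealMul (I ^ N)).obj G ⟶ (Dual3.idealMul (I ^ n)).obj G),
      ι ≫ Dual3.idealMulι (I ^ n) G = Dual3.idealMulι (I ^ N) G ∧ ι ≫ ψ = 0 := by
  haveI := hG.1
  have hK := isCoh_idealMul (I ^ n) hG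
  haveI := hK.1
  let Q := Abelian.image ψ
  have hQ : Coh.IsCoh Q :=
    ⟨QCohLib.isQCoh_image ψ, QCohLib.isFT_of_epi (Abelian.factorThruImage ψ) hK.2⟩
  have hsupp : CohB1.support Q ⊆ (I.support : Set X) := by
    intro x hx
    by_contra hxI
    obtain ⟨b, hb⟩ := (DevissLib.mem_support_iff_nonzero Q x).mp hx
    obtain ⟨a, rfl⟩ := (ModuleCat.epi_iff_surjective ((St x).map (Abelian.factorThruImage ψ))).mp
      inferInstance b
    refine hb ((ModuleCat.mono_iff_injective ((St x).map (Abelian.image.ι ψ))).mp inferInstance ?_)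
    rw [map_zero, ← LinearMap.comp_apply, ← ModuleCat.hom_comp, ← Functor.map_comp, Abelian.image.fac]
    exact stalk_map_eq_zero ψ hψ (hU.ge hxI) a
  obtain ⟨e, he⟩ := exists_killed_pow hQ hsupp
  refine ⟨n + e, inclMul (pow_le_pow (Nat.le_add_right n e)) G, inclMul_ι _ G, ?_⟩
  have h0 : inclMul (pow_le_pow (Nat.le_add_right n e)) G ≫ Abelian.factorThruImage ψ = 0 := by
    refine hom_eq_zero_of_affine _ fun V hV w => ?_
    have hw := app_idealMulι_mem (I ^ (n + e)) G hV w
    rw [show (I ^ (n + e)).ideal ⟨V, hV⟩ = (I ^ e).ideal ⟨V, hV⟩ * (I ^ n).ideal ⟨V, hV⟩ by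
      rw [pow_ideal, pow_ideal, pow_ideal, ← pow_add, Nat.add_comm], Submodule.mul_smul] at hw
    suffices h : ∀ y ∈ (I ^ e).ideal ⟨V, hV⟩ • (I ^ n).ideal ⟨V, hV⟩ • (⊤ : Submodule Γ(X, V) Γ(G, V)),
        ∃ v, (Dual3.idealMulι (I ^ n) G).app V v = y ∧ (Abelian.factorThruImage ψ).app V v = 0 by
      obtain ⟨v, hv, hv0⟩ := h _ hw
      have hv' : (inclMul (pow_le_pow (Nat.le_add_right n e)) G).app V w = v :=
        QCohLib.app_injective_of_mono (Dual3.idealMulι (I ^ n) G) V
          ((congrArg (fun θ : (Dual3.idealMul (I ^ (n + e))).obj G ⟶ G => θ.app V w)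
            (inclMul_ι (pow_le_pow (Nat.le_add_right n e)) G)).trans hv.symm)
      exact (congrArg ((Abelian.factorThruImage ψ).app V) hv').trans hv0
    intro y hy
    refine Submodule.smul_induction_on hy (fun r hr z hz => ?_) fun y y' hy hy' => ?_
    · obtain ⟨v, rfl⟩ := exists_of_mem (I ^ n) G hV hz
      exact ⟨r • v, QCohLib.app_smul _ _ _ _,
        (QCohLib.app_smul _ _ _ _).trans (he ⟨V, hV⟩ r hr _)⟩
    · obtain ⟨v, rfl, hv⟩ := hy
      obtain ⟨v', rfl, hv'⟩ := hy'
      exact ⟨v + v', map_add _ _ _, by rw [map_add, hv, hv', add_zero]⟩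
  rw [← Abelian.image.fac ψ, ← Category.assoc, h0, zero_comp]

end CohExtLib
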