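import Groth.Agent.CohExtLib.Hom

/-!
# Stalk-local properties of coherent modules
-/

set_option autoImplicit false
set_option linter.style.haveILetI false
set_option backward.isDefEq.respectTransparency false

universe u

open CategoryTheory CategoryTheory.Limits AlgebraicGeometry TopologicalSpace Opposite

noncomputable section

namespace CohExtLib

open DevissLib (St gm)

variable {X : Scheme.{u}}

/-- A submodule generated by finitely many sections on an open. -/
theorem exists_sub_through [IsLocallyNoetherian X] {M : X.Modules} (hM : Coh.IsCoh M) (U : X.Opens)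
    {m : ℕ} (s : Fin m → Γ(M, U)) :
    ∃ (H : X.Modules) (i : H ⟶ M), Mono i ∧ Coh.IsCoh H ∧ (∀ k, ∃ t : Γ(H, U), i.app U t = s k) ∧
      ∀ (x : X) (hx : x ∈ U) (a : (St x).obj H),
        ∃ c : Fin m → X.presheaf.stalk x, ((St x).map i).hom a = ∑ k, c k • gm M x hx (s k) := by
  have : Coh.IsQCoh M := hM.1
  let s' : ULift.{u} (Fin m) → Γ(M, U) := fun k => s k.down
  have hcanon : QCohLib.LocSub.Canon (QCohLib.LocSub.span M U s') U := by
    intro W a ha p hp hpU
    obtain ⟨O, hO, hOU, hpO, c, hc⟩ := ha p ⟨hp, hpU⟩ hpU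
    rw [QCohLib.map_map'] at hc
    exact ⟨O, hO.trans inf_le_left, hOU, hpO, c, hc⟩
  have hft : QCohLib.LocSub.FTBelow (QCohLib.LocSub.span M U s') U := fun p hp =>
    ⟨U, le_rfl, hp, m, s', fun i => QCohLib.LocSub.span_self s' i, fun W _ a ha => ha⟩
  obtain ⟨S, hS, hagree⟩ := QCohLib.LocSub.exists_ftExtension
    (fun W O hW => isCompact_inf hW O) U _ hcanon hft
  have hs : ∀ k, S.mem U (s k) := fun k => (hagree U le_rfl (s k)).mpr (QCohLib.LocSub.span_self s' ⟨k⟩)
  refine ⟨S.toModules, S.ι, inferInstance,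
    ⟨QCohLib.LocSub.isQCoh_toModules S hS, QCohLib.LocSub.isFT_toModules S hS⟩,
    fun k => ⟨S.lift (s k) (hs k), S.ι_lift (s k) (hs k)⟩, fun x hx a => ?_⟩
  obtain ⟨W, hxW, z, rfl⟩ := DevissLib.exists_gm_eq _ x a
  have hz : S.mem (W ⊓ U) (M.presheaf.map (homOfLE inf_le_left).op (S.ι.app W z)) :=
    S.res inf_le_left (S.ι_app_mem z)
  obtain ⟨O, hO, hOU, hxO, c, hc⟩ := (hagree (W ⊓ U) inf_le_right _).mp hz x ⟨hxW, hx⟩ hx
  refine ⟨fun k => X.presheaf.germ O x hxO (c ⟨k⟩), ?_⟩
  rw [DevissLib.gm_app, ← DevissLib.gm_map M (inf_le_left : W ⊓ U ≤ W) x ⟨hxW, hx⟩,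
    ← DevissLib.gm_map M hO x hxO, hc]
  refine (map_sum (M.presheaf.germ O x hxO).hom _ _).trans ?_
  refine (Equiv.ulift.symm.sum_comp _).symm.trans (Finset.sum_congr rfl fun k _ => ?_)
  show gm M x hxO (c ⟨k⟩ • _) = _
  rw [DevissLib.gm_smul, DevissLib.gm_map M hOU x hxO]
  rfl

/-- A coherent module mapping to two coherent modules and inducing a given map of their stalks. -/
theorem exists_stalk_graph [IsLocallyNoetherian X] {A B : X.Modules} (hA : Coh.IsCoh A) (hB : Coh.IsCoh B)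
    (η : X) (e : (St η).obj A →ₗ[X.presheaf.stalk η] (St η).obj B) :
    ∃ (H : X.Modules) (p₁ : H ⟶ A) (p₂ : H ⟶ B), Coh.IsCoh H ∧
      Function.Bijective ((St η).map p₁).hom ∧
      ∀ z, ((St η).map p₂).hom z = e (((St η).map p₁).hom z) := by
  classical
  haveI : _root_.IsNoetherian (X.presheaf.stalk η) ((St η).obj A) := DevissLib.isNoetherian_stalk hA η
  obtain ⟨m, g, hg⟩ := Module.Finite.exists_fin (R := X.presheaf.stalk η) (M := (St η).obj A)
  choose Wa hWa a ha using fun k => DevissLib.exists_gm_eq A η (g k)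
  choose Wb hWb b hb using fun k => DevissLib.exists_gm_eq B η (e (g k))
  let U : X.Opens := Finset.univ.inf fun k => Wa k ⊓ Wb k
  have hU : η ∈ U := by
    show η ∈ ((Finset.univ.inf fun k => Wa k ⊓ Wb k : X.Opens) : Set X)
    rw [Opens.coe_finset_inf, Finset.inf_set_eq_iInter]
    simp only [Set.mem_iInter]
    exact fun k _ => ⟨hWa k, hWb k⟩
  have hle : ∀ k, U ≤ Wa k ⊓ Wb k := fun k => Finset.inf_le (Finset.mem_univ k)
  let a' : Fin m → Γ(A, U) := fun k => A.presheaf.map (homOfLE ((hle k).trans inf_le_left)).op (a k)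
  let b' : Fin m → Γ(B, U) := fun k => B.presheaf.map (homOfLE ((hle k).trans inf_le_right)).op (b k)
  have ha' : ∀ k, gm A η hU (a' k) = g k := fun k => (DevissLib.gm_map A _ η hU _).trans (ha k)
  have hb' : ∀ k, gm B η hU (b' k) = e (g k) := fun k => (DevissLib.gm_map B _ η hU _).trans (hb k)
  let v : Fin m → Γ(A ⊞ B, U) := fun k =>
    (biprod.inl : A ⟶ A ⊞ B).app U (a' k) + (biprod.inr : B ⟶ A ⊞ B).app U (b' k)
  have hv₁ : ∀ k, (biprod.fst : A ⊞ B ⟶ A).app U (v k) = a' k := fun k => by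
    rw [map_add]
    refine (congr_arg₂ (· + ·) (congr_arg (fun φ : A ⟶ A => φ.app U (a' k)) biprod.inl_fst)
      (congr_arg (fun φ : B ⟶ A => φ.app U (b' k)) biprod.inr_fst)).trans ?_
    exact add_zero _
  have hv₂ : ∀ k, (biprod.snd : A ⊞ B ⟶ B).app U (v k) = b' k := fun k => by
    rw [map_add]
    refine (congr_arg₂ (· + ·) (congr_arg (fun φ : A ⟶ B => φ.app U (a' k)) biprod.inl_snd)
      (congr_arg (fun φ : B ⟶ B => φ.app U (b' k)) biprod.inr_snd)).trans ?_
    exact zero_add _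
  obtain ⟨H, i, hi, hH, ht, hst⟩ := exists_sub_through (DevissLib.isCoh_biprod hA hB) U v
  choose t ht using ht
  let p₁ := i ≫ (biprod.fst : A ⊞ B ⟶ A)
  let p₂ := i ≫ (biprod.snd : A ⊞ B ⟶ B)
  have hp₁ : ∀ k, ((St η).map p₁).hom (gm H η hU (t k)) = g k := fun k => by
    rw [DevissLib.gm_app]
    exact (congr_arg _ ((congr_arg _ (ht k)).trans (hv₁ k))).trans (ha' k)
  have hp₂ : ∀ k, ((St η).map p₂).hom (gm H η hU (t k)) = e (g k) := fun k => by
    rw [DevissLib.gm_app]
    exact (congr_arg _ ((congr_arg _ (ht k)).trans (hv₂ k))).trans (hb' k)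
  have hi' : Function.Injective ((St η).map i).hom := (ModuleCat.mono_iff_injective _).mp inferInstance
  have hgen : ∀ z : (St η).obj H, ∃ c : Fin m → X.presheaf.stalk η, z = ∑ k, c k • gm H η hU (t k) := fun z => by
    obtain ⟨c, hc⟩ := hst η hU z
    refine ⟨c, hi' (hc.trans ?_)⟩
    rw [map_sum]
    refine Finset.sum_congr rfl fun k _ => ?_
    rw [map_smul, DevissLib.gm_app, ht]
  have hcomm : ∀ z, ((St η).map p₂).hom z = e (((St η).map p₁).hom z) := fun z => by
    obtain ⟨c, rfl⟩ := hgen z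
    simp only [map_sum, map_smul, hp₁, hp₂]
  have hinj : Function.Injective ((St η).map p₁).hom := by
    refine (injective_iff_map_eq_zero _).2 fun z hz => hi' ?_
    have hz₂ : ((St η).map p₂).hom z = 0 := by rw [hcomm, hz, map_zero]
    rw [map_zero]
    refine (DevissLib.biprod_ext η _ ?_ ?_).trans rfl
    · refine Eq.trans ?_ hz
      simp [p₁]
    · refine Eq.trans ?_ hz₂
      simp [p₂]
  have hsurj : Function.Surjective ((St η).map p₁).hom := fun y => by
    obtain ⟨c, rfl⟩ := (Submodule.mem_span_range_iff_exists_fun _).1 (hg.ge (Submodule.mem_top (x := y)))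
    exact ⟨∑ k, c k • gm H η hU (t k), by simp only [map_sum, map_smul, hp₁]⟩
  exact ⟨H, p₁, p₂, hH, ⟨hinj, hsurj⟩, hcomm⟩

theorem mono_restrict {M N : X.Modules} (φ : M ⟶ N) {U : X.Opens}
    (h : ∀ V : X.Opens, V ≤ U → Function.Injective (φ.app V)) :
    Mono ((Scheme.Modules.restrictFunctor U.ι).map φ) := by
  refine Preadditive.mono_of_cancel_zero _ fun {W} w hw => Scheme.Modules.hom_ext _ _ fun O => ?_
  refine ConcreteCategory.hom_ext _ _ fun s => ?_
  refine h (U.ι ''ᵁ O) (by rintro _ ⟨z, -, rfl⟩; exact z.2) ?_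
  exact (congrArg (fun θ : W ⟶ (Scheme.Modules.restrictFunctor U.ι).obj N => θ.app O s) hw).trans
    (map_zero _).symm

/-- The open set of points outside the support of a coherent module. -/
def offSupp {M : X.Modules} (hM : Coh.IsCoh M) : X.Opens :=
  haveI := hM.1
  ⟨(CohB1.support M)ᶜ, (QCohLib.isClosed_support M hM.2).isOpen_compl⟩

theorem isZero_restrict {M : X.Modules} {U : X.Opens} (h : ∀ x ∈ U, x ∉ CohB1.support M) :
    IsZero ((Scheme.Modules.restrictFunctor U.ι).obj M) := by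
  haveI := isIso_restrict_of_stalks (U := U) (0 : M ⟶ M) fun x hx =>
    haveI : Subsingleton ((St x).obj M) := not_not.mp (h x hx)
    ⟨fun a b _ => Subsingleton.elim a b, fun b => ⟨0, Subsingleton.elim _ _⟩⟩
  rw [IsZero.iff_id_eq_zero, ← IsIso.hom_inv_id ((Scheme.Modules.restrictFunctor U.ι).map (0 : M ⟶ M))]
  exact (congrArg (· ≫ _) ((Scheme.Modules.restrictFunctor U.ι).map_zero M M)).trans zero_comp

theorem exists_mono_restrict [IsLocallyNoetherian X] {F G : X.Modules} (hF : Coh.IsCoh F) (hG : Coh.IsCoh G)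
    (φ : G ⟶ F) {x : X} (h : Function.Injective ((St x).map φ).hom) :
    ∃ U : X.Opens, x ∈ U ∧ ∀ y ∈ U, Function.Injective ((St y).map φ).hom := by
  have hK := QCohLib.isCoh_kernel φ hG hF.1
  refine ⟨offSupp hK, DevissLib.notMem_support_kernel φ x h, fun y hy => ?_⟩
  haveI : Mono ((St y).map φ) := by
    refine Preadditive.mono_of_isZero_kernel _ ?_
    exact ((DevissLib.notMem_support_iff _ _).mp hy).of_iso (PreservesKernel.iso (St y) φ).symm
  exact (ModuleCat.mono_iff_injective _).mp inferInstance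

theorem exists_bijective [IsLocallyNoetherian X] {F G : X.Modules} (hF : Coh.IsCoh F) (hG : Coh.IsCoh G)
    (φ : G ⟶ F) {x : X} (h : Function.Bijective ((St x).map φ).hom) :
    ∃ U : X.Opens, x ∈ U ∧ ∀ y ∈ U, Function.Bijective ((St y).map φ).hom := by
  obtain ⟨U, hxU, hU⟩ := exists_mono_restrict hF hG φ h.1
  have hC := QCohLib.isCoh_cokernel φ hG.1 hF
  refine ⟨U ⊓ offSupp hC, ⟨hxU, DevissLib.notMem_support_cokernel φ x h.2⟩, fun y hy => ⟨hU y hy.1, ?_⟩⟩
  haveI : Epi ((St y).map φ) := by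
    refine Preadditive.epi_of_isZero_cokernel _ ?_
    exact ((DevissLib.notMem_support_iff _ _).mp hy.2).of_iso (PreservesCokernel.iso (St y) φ).symm
  exact (ModuleCat.epi_iff_surjective _).mp inferInstance

end CohExtLib
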