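import Groth.Agent.CohExtLib.Generic
import Groth.Agent.S9523
import Groth.Agent.DevissLib.Finite

/-!
# Direct images along finite surjective morphisms at the generic point
-/

set_option autoImplicit false
set_option linter.style.haveILetI false
set_option backward.isDefEq.respectTransparency false

universe u

open CategoryTheory CategoryTheory.Limits AlgebraicGeometry TopologicalSpace Opposite

noncomputable section

namespace CohExtLib

open DevissLib (St gm)

variable {X Y : Scheme.{u}}

theorem nontrivial_stalk_push_structure (f : X ⟶ Y) [Surjective f] (η : Y) :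
    Nontrivial ((St η).obj ((Coh.push f).obj (Coh.structureModule X))) := by
  obtain ⟨U, hU, hηU⟩ := QCohLib.exists_affine_nhd η
  let G := (Coh.push f).obj (Coh.structureModule X)
  refine ⟨gm G η hηU (show Γ(G, U) from (1 : Γ(X, f ⁻¹ᵁ U))), 0, fun h => ?_⟩
  obtain ⟨W, hηW, i₁, i₂, hW⟩ := TopCat.Presheaf.germ_eq G.presheaf η hηU hηU
    (show Γ(G, U) from (1 : Γ(X, f ⁻¹ᵁ U))) 0 (h.trans (DevissLib.gm_zero G η hηU).symm)
  rw [map_zero] at hW
  obtain ⟨y, hy⟩ := f.surjective η
  have hyW : y ∈ f ⁻¹ᵁ W := by show f y ∈ W; rw [hy]; exact hηW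
  have h1 : (1 : Γ(X, f ⁻¹ᵁ W)) = 0 :=
    (map_one (X.presheaf.map (homOfLE (f.preimage_mono i₁.le)).op).hom).symm.trans hW
  exact (one_ne_zero (α := X.presheaf.stalk y))
    ((map_one (X.presheaf.germ _ y hyW).hom).symm.trans ((congrArg _ h1).trans (map_zero _)))

/-- A power of a coherent module is, at the generic point, a direct image along a finite surjective
morphism. -/
theorem exists_push_hom [IsNoetherian Y] [IsIntegral Y] [IsLocallyNoetherian X] (f : X ⟶ Y)
    [IsFinite f] [Surjective f] {F : Y.Modules} (hF : Coh.IsCoh F) (r : ℕ)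
    (hr : r = Module.finrank (Y.presheaf.stalk (genericPoint Y))
      ((St (genericPoint Y)).obj ((Coh.push f).obj (Coh.structureModule X)))) :
    ∃ (G : X.Modules) (β : (Coh.push f).obj G ⟶ ∐ fun _ : ULift.{u} (Fin r) => F),
      0 < r ∧ Coh.IsCoh G ∧ Function.Bijective ((St (genericPoint Y)).map β).hom := by
  classical
  let η : Y := genericPoint Y
  letI : Field (Y.presheaf.stalk η) := (Field.toIsField Y.functionField).toField
  let M := (Coh.push f).obj (Coh.structureModule X)
  have hM : Coh.IsCoh M := QCohLib.isCoh_push_finite f _ (DevissLib.isCoh_structureModule X)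
  haveI := hM.1
  haveI : Module.Finite (Y.presheaf.stalk η) ((St η).obj M) := by
    haveI := DevissLib.isNoetherian_stalk hM η; infer_instance
  haveI : Module.Finite (Y.presheaf.stalk η) ((St η).obj F) := by
    haveI := DevissLib.isNoetherian_stalk hF η; infer_instance
  haveI := nontrivial_stalk_push_structure f η
  have hr0 : 0 < r := hr ▸ Module.finrank_pos
  let d := Module.finrank (Y.presheaf.stalk η) ((St η).obj F)
  let G₀ : X.Modules := ∐ fun _ : ULift.{u} (Fin d) => Coh.structureModule X
  have hG₀ : Coh.IsCoh G₀ :=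
    CycK0Lib.isCoh_sigma (locallyFinite_of_finite _) fun _ => DevissLib.isCoh_structureModule X
  haveI := hG₀.1
  have hA : Coh.IsCoh ((Coh.push f).obj G₀) := QCohLib.isCoh_push_finite f _ hG₀
  have hB : Coh.IsCoh (∐ fun _ : ULift.{u} (Fin r) => F) :=
    CycK0Lib.isCoh_sigma (locallyFinite_of_finite _) fun _ => hF
  haveI := preservesCoproduct_push f fun _ : ULift.{u} (Fin d) => Coh.structureModule X
  let c : (Coh.push f).obj G₀ ≅ ∐ fun _ : ULift.{u} (Fin d) => M :=
    PreservesCoproduct.iso (Coh.push f) fun _ : ULift.{u} (Fin d) => Coh.structureModule X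
  haveI : Module.Finite (Y.presheaf.stalk η) ((St η).obj ((Coh.push f).obj G₀)) := by
    haveI := DevissLib.isNoetherian_stalk hA η; infer_instance
  haveI : Module.Finite (Y.presheaf.stalk η) ((St η).obj (∐ fun _ : ULift.{u} (Fin r) => F)) := by
    haveI := DevissLib.isNoetherian_stalk hB η; infer_instance
  obtain ⟨e⟩ := FiniteDimensional.nonempty_linearEquiv_of_finrank_eq (R := Y.presheaf.stalk η)
    (M := (St η).obj ((Coh.push f).obj G₀)) (M' := (St η).obj (∐ fun _ : ULift.{u} (Fin r) => F)) (by
      rw [((St η).mapIso c).toLinearEquiv.finrank_eq, finrank_stalk_sigma, finrank_stalk_sigma, ← hr,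
        Fintype.card_ulift, Fintype.card_ulift, Fintype.card_fin, Fintype.card_fin, mul_comm])
  obtain ⟨J, β₀, -, hb⟩ := exists_hom_idealMul hA hB η e
  obtain ⟨e₉, -⟩ := Groth.Agent.S9523.result f G₀ hG₀.1 J
  refine ⟨(Dual3.idealMul (J.comap f)).obj G₀, e₉.inv ≫ β₀, hr0, isCoh_idealMul _ hG₀, ?_⟩
  rw [Functor.map_comp, ModuleCat.hom_comp, LinearMap.coe_comp]
  exact hb.comp ((St η).mapIso e₉).symm.toLinearEquiv.bijective

end CohExtLib
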