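import Groth.Agent.QCohLib.SerreCrit

/-!
# Serre's criterion with submodules of free modules
-/

set_option autoImplicit false
set_option linter.style.haveILetI false

universe u
open CategoryTheory CategoryTheory.Limits TopologicalSpace Opposite AlgebraicGeometry
open QCohLib (mulBy mulBy_app structMap epi_structMap isQCoh_pushforward isQCoh_unit isQCoh_biprod isQCoh_kernel
  epi_of_surjective_on_affines isUnit_res ringMap_map')

noncomputable section

namespace CohExtLib.SerreFree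

variable {X : Scheme.{u}}

/-- A quasi-coherent module embedding into a finite power of the structure module. -/
def SubFree (E : X.Modules) : Prop :=
  Coh.IsQCoh E ∧ ∃ (n : ℕ) (j : E ⟶ ∏ᶜ fun _ : Fin n => Coh.structureModule X), Mono j

theorem SubFree.biprod {A B : X.Modules} (hA : SubFree A) (hB : SubFree B) : SubFree (A ⊞ B) := by
  obtain ⟨hA, n, a, ha⟩ := hA
  obtain ⟨hB, m, b, hb⟩ := hB
  refine ⟨isQCoh_biprod A B, n + m, Pi.lift (Fin.addCases
    (fun i => biprod.fst ≫ a ≫ Pi.π (fun _ : Fin n => Coh.structureModule X) i)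
    (fun i => biprod.snd ≫ b ≫ Pi.π (fun _ : Fin m => Coh.structureModule X) i)), ?_⟩
  refine Preadditive.mono_of_cancel_zero _ fun {Z} g hg => ?_
  refine biprod.hom_ext _ _ ?_ ?_
  · rw [zero_comp, ← cancel_mono a, zero_comp]
    refine Pi.hom_ext _ _ fun i => ?_
    have h1 := congrArg (· ≫ Pi.π (fun _ : Fin (n + m) => Coh.structureModule X) (Fin.castAdd m i)) hg
    simpa using h1
  · rw [zero_comp, ← cancel_mono b, zero_comp]
    refine Pi.hom_ext _ _ fun i => ?_
    have h1 := congrArg (· ≫ Pi.π (fun _ : Fin (n + m) => Coh.structureModule X) (Fin.natAdd n i)) hg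
    simpa using h1

variable (h : ∀ (S : ShortComplex X.Modules) (n : ℕ) (j : S.X₁ ⟶ ∏ᶜ (fun _ : Fin n => Coh.structureModule X)),
      S.ShortExact → Mono j → Coh.IsQCoh S.X₁ → Coh.IsQCoh S.X₂ → Coh.IsQCoh S.X₃ →
        Function.Surjective (S.g.val.app (op ⊤)).hom)

include h in
theorem surjective_app_top {E M : X.Modules} (hE : SubFree E) (φ : E ⟶ M) [Epi φ]
    [Coh.IsQCoh M] (s : Γ(M, ⊤)) : ∃ t : Γ(E, ⊤), φ.app ⊤ t = s := by
  obtain ⟨hE, n, j, hj⟩ := hE
  let S : ShortComplex X.Modules := ShortComplex.mk (kernel.ι φ) φ (kernel.condition φ)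
  have hS : S.ShortExact :=
    { exact := ShortComplex.exact_of_f_is_kernel _ (kernelIsKernel φ)
      mono_f := inferInstanceAs (Mono (kernel.ι φ))
      epi_g := inferInstanceAs (Epi φ) }
  exact h S n (kernel.ι φ ≫ j) hS (mono_comp _ _) (isQCoh_kernel φ) hE inferInstance s

include h in
theorem exists_global_separating (hO : SubFree (Coh.structureModule X))
    (U : X.Opens) {x : X} (hx : IsClosed ({x} : Set X)) (hxU : x ∈ U) :
    ∃ f : Γ(X, ⊤), x ∈ X.basicOpen f ∧ X.basicOpen f ≤ U := by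
  let Z : Closeds X := ⟨(U : Set X)ᶜ ∪ {x}, U.isOpen.isClosed_compl.union hx⟩
  let I := Scheme.IdealSheafData.vanishingIdeal Z
  let i := I.subschemeι
  have hr : Set.range i = (U : Set X)ᶜ ∪ {x} := by
    rw [I.range_subschemeι, Scheme.IdealSheafData.coe_support_vanishingIdeal]
    rfl
  let A : I.subscheme.Opens := i ⁻¹ᵁ U
  let B : I.subscheme.Opens := i ⁻¹ᵁ ⟨{x}ᶜ, hx.isOpen_compl⟩
  have hAB : A ⊓ B ≤ ⊥ := fun w hw => by
    rcases hr.le ⟨w, rfl⟩ with h | h
    · exact h hw.1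
    · exact hw.2 h
  have htop : (⊤ : I.subscheme.Opens) ≤ A ⊔ B := fun w _ => by
    by_cases h : i w = x
    · exact Or.inl (show i w ∈ U from h ▸ hxU)
    · exact Or.inr h
  have : Coh.IsQCoh ((Scheme.Modules.pushforward i).obj (Coh.structureModule I.subscheme)) :=
    @isQCoh_pushforward _ _ i _ _ _ (isQCoh_unit)
  have := epi_structMap i
  have hbot : ∀ {V : I.subscheme.Opens}, V ≤ ⊥ → Subsingleton Γ(I.subscheme, V) := fun hV => by
    obtain rfl := le_bot_iff.mp hV
    infer_instance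
  obtain ⟨s, hsA, hsB⟩ : ∃ s : Γ(I.subscheme, ⊤),
      I.subscheme.presheaf.map (homOfLE (le_top : A ≤ ⊤)).op s = 1 ∧
      I.subscheme.presheaf.map (homOfLE (le_top : B ≤ ⊤)).op s = 0 := by
    obtain ⟨s, hs, -⟩ := I.subscheme.sheaf.existsUnique_gluing'
      (fun t : ULift.{u} Bool => if t.down then A else B) ⊤
      (fun t => homOfLE le_top)
      (htop.trans (sup_le (le_iSup_of_le ⟨true⟩ le_rfl) (le_iSup_of_le ⟨false⟩ le_rfl)))
      (fun t => match t with | ⟨true⟩ => (1 : Γ(I.subscheme, A)) | ⟨false⟩ => (0 : Γ(I.subscheme, B)))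
      (fun a b => by
        rcases a with ⟨_ | _⟩ <;> rcases b with ⟨_ | _⟩
        · rfl
        · exact @Subsingleton.elim _ (hbot (le_trans (le_inf inf_le_right inf_le_left) hAB)) _ _
        · exact @Subsingleton.elim _ (hbot hAB) _ _
        · rfl)
    exact ⟨s, hs ⟨true⟩, hs ⟨false⟩⟩
  obtain ⟨f, hf⟩ := surjective_app_top h hO (structMap i) s
  replace hf : i.app ⊤ f = s := hf
  have hpre : i ⁻¹ᵁ X.basicOpen (f : Γ(X, ⊤)) = I.subscheme.basicOpen s := by
    rw [Scheme.preimage_basicOpen, hf]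
    rfl
  refine ⟨f, ?_, fun p hp => ?_⟩
  · obtain ⟨w, hw⟩ := hr.ge (Or.inr rfl : x ∈ (U : Set X)ᶜ ∪ {x})
    have hwA : w ∈ A := show i w ∈ U from hw ▸ hxU
    have : w ∈ i ⁻¹ᵁ X.basicOpen (f : Γ(X, ⊤)) := by
      rw [hpre]
      have h1 : w ∈ A ⊓ I.subscheme.basicOpen s := by
        rw [← Scheme.basicOpen_res _ _ (homOfLE (le_top : A ≤ ⊤)).op, hsA,
          Scheme.basicOpen_of_isUnit _ isUnit_one]
        exact hwA
      exact h1.2
    exact hw ▸ this
  · by_contra hpU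
    obtain ⟨w, hw⟩ := hr.ge (Or.inl hpU)
    have hwp : w ∈ i ⁻¹ᵁ X.basicOpen (f : Γ(X, ⊤)) := show i w ∈ _ from hw ▸ hp
    rw [hpre] at hwp
    have hwB : w ∈ B := show i w ≠ x from fun e => hpU (hw ▸ e ▸ hxU)
    have h1 : w ∈ B ⊓ I.subscheme.basicOpen s := ⟨hwB, hwp⟩
    rw [← Scheme.basicOpen_res _ _ (homOfLE (le_top : B ≤ ⊤)).op, hsB,
      Scheme.basicOpen_zero] at h1
    exact h1

/-- Finitely many functions without common zero, as an epimorphism from an acyclic module. -/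
theorem exists_subFree_cover (hO : SubFree (Coh.structureModule X)) (t : Finset Γ(X, ⊤)) :
    ∃ (E : X.Modules) (φ : E ⟶ Coh.structureModule X), SubFree E ∧
      (∀ e, (show Γ(X, ⊤) from φ.app ⊤ e) ∈ (Ideal.span (t : Set Γ(X, ⊤)) : Ideal Γ(X, ⊤))) ∧
      ∀ f ∈ t, ∃ j : Coh.structureModule X ⟶ E, j ≫ φ = mulBy f := by
  classical
  induction t using Finset.induction_on with
  | empty =>
    refine ⟨Coh.structureModule X, 0, hO, fun e => ?_, fun f hf => absurd hf (Finset.notMem_empty f)⟩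
    exact zero_mem _
  | insert f t hft ih =>
    obtain ⟨E, φ, hE, hφ, hj⟩ := ih
    refine ⟨E ⊞ Coh.structureModule X, biprod.desc φ (mulBy f), hE.biprod hO, fun e => ?_,
      fun g hg => ?_⟩
    · have he : biprod.desc φ (mulBy f) = biprod.fst ≫ φ + biprod.snd ≫ mulBy f := by
        apply biprod.hom_ext' <;> simp
      rw [he]
      refine add_mem (S := Ideal Γ(X, ⊤)) ?_ ?_
      · exact Ideal.span_mono (Finset.coe_subset.mpr (Finset.subset_insert f t)) (hφ _)
      · change (show Γ(X, ⊤) from (mulBy f).app ⊤ _) ∈ _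
        rw [mulBy_app]
        refine Ideal.mul_mem_left _ _ (Ideal.subset_span ?_)
        simp
    · rcases Finset.mem_insert.mp hg with rfl | hg
      · exact ⟨biprod.inr, biprod.inr_desc _ _⟩
      · obtain ⟨j, hj⟩ := hj g hg
        exact ⟨j ≫ biprod.inl, by simp [hj]⟩

include h in
theorem span_eq_top (hO : SubFree (Coh.structureModule X)) (t : Finset Γ(X, ⊤))
    (ht : ∀ p : X, ∃ f ∈ t, p ∈ X.basicOpen f) : Ideal.span (t : Set Γ(X, ⊤)) = ⊤ := by
  obtain ⟨E, φ, hE, hφ, hj⟩ := exists_subFree_cover hO t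
  have : Epi φ := by
    refine epi_of_surjective_on_affines _ fun V s p hp => ?_
    obtain ⟨f, hft, hpf⟩ := ht p
    obtain ⟨j, hjf⟩ := hj f hft
    obtain ⟨u, hu⟩ := (isUnit_res f (inf_le_right : V ⊓ X.basicOpen f ≤ X.basicOpen f))
    let r : Γ(X, V ⊓ X.basicOpen f) :=
      HMul.hMul (α := Γ(X, V ⊓ X.basicOpen f))
        (X.presheaf.map (homOfLE (inf_le_left : V ⊓ X.basicOpen f ≤ V)).op (show Γ(X, V) from s))
        ((↑u⁻¹ : Γ(X, V ⊓ X.basicOpen f)))
    refine ⟨V ⊓ X.basicOpen f, inf_le_left, ⟨hp, hpf⟩, j.app _ r, ?_⟩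
    refine ((congr_arg (fun θ : Coh.structureModule X ⟶ Coh.structureModule X => θ.app _ r)
      hjf)).trans ?_
    change (show Γ(X, V ⊓ X.basicOpen f) from (mulBy f).app (V ⊓ X.basicOpen f) r) = _
    rw [mulBy_app, ← hu]
    simp only [r, mul_assoc, Units.inv_mul, mul_one]
    rfl
  obtain ⟨e, he⟩ := @surjective_app_top _ h _ _ hE φ _ isQCoh_unit (1 : Γ(X, ⊤))
  exact (Ideal.eq_top_iff_one _).mpr (he ▸ hφ e)

include h in
theorem isAffine_of_subFree [CompactSpace X] (hO : SubFree (Coh.structureModule X)) :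
    IsAffine X := by
  classical
  let G : Set Γ(X, ⊤) := {f | IsAffineOpen (X.basicOpen f)}
  have hcov : (Set.univ : Set X) ⊆ ⋃ f : G, (X.basicOpen (f : Γ(X, ⊤)) : Set X) := by
    by_contra hne
    obtain ⟨p, -, hp⟩ := Set.not_subset.mp hne
    obtain ⟨x, hx, hxc⟩ := (isOpen_iUnion fun f : G =>
      (X.basicOpen (f : Γ(X, ⊤))).isOpen).isClosed_compl.exists_closed_singleton ⟨p, hp⟩
    obtain ⟨U, hU, hxU, -⟩ := Opens.isBasis_iff_nbhd.mp X.isBasis_affineOpens (U := ⊤) (x := x) trivial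
    obtain ⟨f, hxf, hfU⟩ := exists_global_separating h hO U hxc hxU
    have hfG : f ∈ G := by
      have h := hU.basicOpen (X.presheaf.map (homOfLE (le_top : U ≤ ⊤)).op f)
      rw [Scheme.basicOpen_res] at h
      rw [inf_eq_right.mpr hfU] at h
      exact h
    exact hx (Set.mem_iUnion.mpr ⟨⟨f, hfG⟩, hxf⟩)
  obtain ⟨t, ht⟩ := isCompact_univ.elim_finite_subcover
    (fun f : G => (X.basicOpen (f : Γ(X, ⊤)) : Set X)) (fun f => (X.basicOpen _).isOpen) hcov
  refine isAffine_of_isAffineOpen_basicOpen ((t.image Subtype.val : Finset Γ(X, ⊤)) : Set Γ(X, ⊤))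
    (span_eq_top h hO _ fun p => ?_) fun f hf => ?_
  · obtain ⟨f, hft, hp⟩ := Set.mem_iUnion₂.mp (ht (Set.mem_univ p))
    exact ⟨f.1, Finset.mem_image_of_mem _ hft, hp⟩
  · obtain ⟨f, -, rfl⟩ := Finset.mem_image.mp (Finset.mem_coe.mp hf)
    exact f.2

end CohExtLib.SerreFree
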