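import Groth.Agent.CohExtLib.Local
import Mathlib.RingTheory.Ideal.AssociatedPrime.Finiteness

/-!
# Coherent submodules avoiding a submodule supported outside an open

If `p : H ⟶ G` is injective over `U`, some coherent submodule of `H`, equal to `H` over `U`, maps
injectively to `G`.  No quasi-compactness is needed: at each associated point `η` of the kernel one
imposes membership in a high power of the maximal ideal.
-/

set_option autoImplicit false
set_option linter.style.haveILetI false
set_option backward.isDefEq.respectTransparency false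

universe u

open CategoryTheory CategoryTheory.Limits AlgebraicGeometry TopologicalSpace Opposite

noncomputable section

namespace CohExtLib

open DevissLib (St gm Asso)

variable {X : Scheme.{u}}

/-- Some power of the maximal ideal meets the socle of a finite submodule trivially. -/
theorem exists_pow_socle {R : Type u} [CommRing R] [IsNoetherianRing R] {A B : Type u} [AddCommGroup A]
    [Module R A] [AddCommGroup B] [Module R B] [Module.Finite R B] (f : A →ₗ[R] B) (m : Ideal R) :
    ∃ n : ℕ, ∀ a : A, (∀ r ∈ m, r • a = 0) → f a ∈ (m ^ n • ⊤ : Submodule R B) → f a = 0 := by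
  let N : Submodule R B :=
    { carrier := {b | ∀ r ∈ m, r • b = 0}
      zero_mem' := fun r _ => smul_zero r
      add_mem' := fun hb hb' r hr => by rw [smul_add, hb r hr, hb' r hr, add_zero]
      smul_mem' := fun c b hb r hr => by rw [smul_comm, hb r hr, smul_zero] }
  obtain ⟨c, hc⟩ := Ideal.exists_pow_inf_eq_pow_smul m N
  refine ⟨c + 1, fun a ha h => ?_⟩
  have h1 : f a ∈ m ^ (c + 1) • ⊤ ⊓ N := ⟨h, fun r hr => by rw [← map_smul, ha r hr, map_zero]⟩
  rw [hc _ (Nat.le_succ c), Nat.succ_sub (le_refl c), Nat.sub_self, pow_one] at h1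
  have h2 : m • (m ^ c • ⊤ ⊓ N) ≤ ⊥ := Submodule.smul_le.2 fun r hr w hw => hw.2 r hr
  exact h2 h1

theorem finite_asso [IsLocallyNoetherian X] {K : X.Modules} (hK : Coh.IsCoh K) {W : X.Opens}
    (hW : IsAffineOpen W) : {η : X | η ∈ W ∧ Asso K η}.Finite := by
  classical
  haveI := hK.1
  haveI : IsNoetherianRing Γ(X, W) := IsLocallyNoetherian.component_noetherian ⟨W, hW⟩
  haveI := QCohLib.finite_of_isFT hK.2 hW
  refine Set.Finite.subset ((((associatedPrimes.finite Γ(X, W) Γ(K, W)).preimage
    (f := fun q : PrimeSpectrum Γ(X, W) => q.asIdeal)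
    (fun a _ b _ h => PrimeSpectrum.ext h))).image hW.fromSpec) ?_
  rintro η ⟨hη, a, ha, hk⟩
  obtain ⟨O, hO, s', rfl⟩ := DevissLib.exists_gm_eq K η a
  obtain ⟨g, hgO, hηg⟩ := QCohLib.exists_basicOpen_nhd hW hO hη
  obtain ⟨N, m, hm⟩ := (QCohLib.localizingAt_of_isQCoh hW K g).exists_extend
    (K.presheaf.map (homOfLE hgO).op s')
  have hu : IsUnit (X.presheaf.germ (X.basicOpen g) η hηg
      (X.presheaf.map (homOfLE (X.basicOpen_le g)).op g)) := by
    rw [TopCat.Presheaf.germ_res_apply]
    exact (X.mem_basicOpen g η hη).mp hηg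
  have hgm : gm K η hη m = (X.presheaf.germ (X.basicOpen g) η hηg
      (X.presheaf.map (homOfLE (X.basicOpen_le g)).op g)) ^ N • gm K η hO s' := by
    rw [← DevissLib.gm_map K (X.basicOpen_le g) η hηg m, hm, DevissLib.gm_smul, map_pow,
      DevissLib.gm_map K hgO η hηg]
  obtain ⟨r, hr, hrk⟩ := DevissLib.exists_section_killed hW hη m (fun r hr => by
    rw [hgm, smul_comm, hk r hr, smul_zero])
  have hne : gm K η hη (r • m) ≠ 0 := by
    rw [DevissLib.gm_smul, hgm]
    intro h
    exact ha ((hu.pow N).smul_eq_zero.mp (hr.smul_eq_zero.mp h))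
  let p := hW.primeIdealOf ⟨η, hη⟩
  refine ⟨p, isAssociatedPrime_iff.mpr ⟨p.2, r • m, ?_⟩, hW.fromSpec_primeIdealOf ⟨η, hη⟩⟩
  ext b
  rw [Submodule.mem_colon_singleton, Submodule.mem_bot]
  refine ⟨fun hb => hrk b hb, fun hb => ?_⟩
  by_contra hbp
  exact hne ((DevissLib.gm_eq_zero_iff hW η hη _).mpr ⟨b, hbp, hb⟩)

/-- A coherent submodule, equal to `H` over `U`, on which `p` is injective. -/
theorem exists_sub_mono [IsLocallyNoetherian X] {H G : X.Modules} (hH : Coh.IsCoh H) [Coh.IsQCoh G]
    (p : H ⟶ G) {U : X.Opens} (hU : ∀ x ∈ U, Function.Injective ((St x).map p).hom) :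
    ∃ (T : X.Modules) (j : T ⟶ H), Coh.IsCoh T ∧ Mono (j ≫ p) ∧
      ∀ V : X.Opens, V ≤ U → Function.Bijective (j.app V) := by
  classical
  haveI := hH.1
  let K := kernel p
  have hK : Coh.IsCoh K := QCohLib.isCoh_kernel p hH inferInstance
  have hKU : ∀ η, Asso K η → η ∉ U := fun η hη hηU =>
    DevissLib.notMem_support_kernel p η (hU η hηU) hη.mem_support
  haveI hfin : ∀ x : X, Module.Finite (X.presheaf.stalk x) ((St x).obj H) := fun x => by
    haveI := DevissLib.isNoetherian_stalk hH x
    infer_instance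
  choose n hn using fun η : X => exists_pow_socle ((St η).map (kernel.ι p)).hom
    (IsLocalRing.maximalIdeal (X.presheaf.stalk η))
  let M : ∀ η : X, Submodule (X.presheaf.stalk η) ((St η).obj H) := fun η =>
    IsLocalRing.maximalIdeal (X.presheaf.stalk η) ^ n η • ⊤
  let S : QCohLib.LocSub H :=
    { mem := fun V z => ∀ (η : X) (hη : η ∈ V), Asso K η → gm H η hη z ∈ M η
      zero := fun V η hη _ => by rw [DevissLib.gm_zero]; exact zero_mem _
      add := fun {V a b} ha hb η hη h => by
        rw [show gm H η hη (a + b) = gm H η hη a + gm H η hη b from map_add _ _ _]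
        exact add_mem (ha η hη h) (hb η hη h)
      smul := fun {V} r {a} ha η hη h => by
        rw [DevissLib.gm_smul]
        exact Submodule.smul_mem _ _ (ha η hη h)
      res := fun {V W} hle {a} ha η hη h => by
        rw [DevissLib.gm_map H hle η hη]
        exact ha η (hle hη) h
      local' := fun {V} a hloc η hη h => by
        obtain ⟨W, hW, hηW, hm⟩ := hloc η hη
        rw [← DevissLib.gm_map H hW η hηW]
        exact hm η hηW h }
  have hq : Coh.IsQCoh S.toModules := by
    rw [QCohLib.isQCoh_iff_localizingAt]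
    intro W hW g
    refine ⟨fun z => ?_, fun z hz => ?_⟩
    · obtain ⟨N, t, ht⟩ := (QCohLib.localizingAt_of_isQCoh hW H g).exists_extend (S.ι.app _ z)
      let k := (finite_asso hK hW).toFinset.sup n
      have hmem : S.mem W (g ^ k • t) := by
        intro η hη hass
        rw [DevissLib.gm_smul, map_pow]
        by_cases hηg : η ∈ X.basicOpen g
        · refine Submodule.smul_mem _ _ ?_
          rw [← DevissLib.gm_map H (X.basicOpen_le g) η hηg, ht, DevissLib.gm_smul]
          exact Submodule.smul_mem _ _ (S.ι_app_mem z η hηg hass)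
        · refine Submodule.smul_mem_smul (Ideal.pow_le_pow_right
            (Finset.le_sup ((finite_asso hK hW).mem_toFinset.mpr ⟨hη, hass⟩))
            (Ideal.pow_mem_pow ?_ k)) trivial
          exact (IsLocalRing.mem_maximalIdeal _).mpr fun hu => hηg ((X.mem_basicOpen g η hη).mpr hu)
      refine ⟨k + N, S.lift _ hmem, S.ι_app_injective _ ?_⟩
      rw [QCohLib.app_map, S.ι_lift, QCohLib.app_smul, QCohLib.map_smul', ht, map_pow, ← mul_smul,
        ← pow_add]
    · obtain ⟨N, hN⟩ := (QCohLib.localizingAt_of_isQCoh hW H g).eq_zero (S.ι.app _ z)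
        (by rw [← QCohLib.app_map, hz, map_zero])
      exact ⟨N, S.ι_app_injective _ (by rw [QCohLib.app_smul, hN, map_zero])⟩
  have hT : Coh.IsCoh S.toModules := QCohLib.isCoh_of_mono S.ι hH hq
  refine ⟨S.toModules, S.ι, hT, ?_, fun V hV =>
    ⟨S.ι_app_injective V, fun z => ⟨S.lift z fun η hη h => absurd (hV hη) (hKU η h), S.ι_lift _ _⟩⟩⟩
  refine Preadditive.mono_of_isZero_kernel _ (DevissLib.isZero_of_support_empty
    (Set.eq_empty_of_forall_notMem fun x hx => ?_))
  obtain ⟨η, a, ha, hk⟩ := DevissLib.exists_asso (QCohLib.isCoh_kernel (S.ι ≫ p) hT inferInstance) hx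
  let l : kernel (S.ι ≫ p) ⟶ K := kernel.lift p (kernel.ι (S.ι ≫ p) ≫ S.ι)
    (by rw [Category.assoc, kernel.condition])
  let b := ((St η).map l).hom a
  have hι : Function.Injective ((St η).map (kernel.ι p)).hom :=
    (ModuleCat.mono_iff_injective _).mp inferInstance
  have hl : ((St η).map (kernel.ι p)).hom b =
      ((St η).map S.ι).hom (((St η).map (kernel.ι (S.ι ≫ p))).hom a) := by
    simp only [b]
    rw [← LinearMap.comp_apply, ← LinearMap.comp_apply, ← ModuleCat.hom_comp, ← ModuleCat.hom_comp,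
      ← Functor.map_comp, ← Functor.map_comp, kernel.lift_ι]
  have hinj : Function.Injective ((St η).map (kernel.ι (S.ι ≫ p) ≫ S.ι)).hom :=
    (ModuleCat.mono_iff_injective _).mp inferInstance
  have hl' : ((St η).map (kernel.ι p)).hom b = ((St η).map (kernel.ι (S.ι ≫ p) ≫ S.ι)).hom a := by
    rw [hl, Functor.map_comp]
    rfl
  have hbne : b ≠ 0 := fun h0 => ha (hinj (by rw [← hl', h0, map_zero, map_zero]))
  have hkb : ∀ r ∈ IsLocalRing.maximalIdeal (X.presheaf.stalk η), r • b = 0 := fun r hr => by
    rw [← map_smul, hk r hr, map_zero]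
  refine hbne (hι ((hn η b hkb ?_).trans (map_zero _).symm))
  rw [hl]
  obtain ⟨O, hO, z, hz⟩ := DevissLib.exists_gm_eq S.toModules η
    (((St η).map (kernel.ι (S.ι ≫ p))).hom a)
  rw [← hz, DevissLib.gm_app]
  exact S.ι_app_mem z η hO ⟨b, hbne, hkb⟩

end CohExtLib
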